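import Cfsg.Agent.Chev.TwDegree.Proj
import Cfsg.Agent.Chars.Values

/-! Auxiliary facts on eigenspaces of abelian groups and on stable subspaces. -/

set_option autoImplicit false
set_option linter.unusedSectionVars false

open Finset
open Cfsg.Lib.TwDeg

namespace Cfsg.Lib.GTwoDeg

section general

variable {G : Type*} [Group G] {V : Type*} [AddCommGroup V] [Module ℂ V] [FiniteDimensional ℂ V]
  (φ : G →* Module.End ℂ V)

/-- The multiplicities for a homomorphic image of a group are sums of multiplicities. -/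
theorem marginal {A B I : Type*} [AddCommGroup A] [Fintype A] [AddCommGroup B] [Fintype B] [Fintype I]
    (e : A → G) (he : ∀ a b, e a * e b = e (a + b)) (ι : B →+ A) (χ : I ≃ AddChar A ℂ) (ψ : AddChar B ℂ)
    [DecidablePred fun i => (χ i).compAddMonoidHom ι = ψ] :
    dd φ (fun b => e (ι b)) ψ = ∑ i, if (χ i).compAddMonoidHom ι = ψ then dd φ e (χ i) else 0 := by
  classical
  have he' : ∀ a b, e (ι a) * e (ι b) = e (ι (a + b)) := fun a b => by rw [he, map_add]
  have key : ∀ i, proj φ (fun b => e (ι b)) ψ * proj φ e (χ i) =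
      if (χ i).compAddMonoidHom ι = ψ then proj φ e (χ i) else 0 := by
    intro i
    rw [proj, smul_mul_assoc, Finset.sum_mul]
    simp only [smul_mul_assoc, e_mul_proj he, smul_smul, ← Finset.sum_smul]
    have e1 : ∀ b, ψ (-b) * χ i (ι b) = (ψ⁻¹ * (χ i).compAddMonoidHom ι) b := fun b => by
      simp [AddChar.inv_apply]
    simp only [e1, AddChar.sum_eq_ite]
    have e2 : ψ⁻¹ * (χ i).compAddMonoidHom ι = 0 ↔ (χ i).compAddMonoidHom ι = ψ := by
      rw [← AddChar.one_eq_zero, inv_mul_eq_one, eq_comm]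
    by_cases h : (χ i).compAddMonoidHom ι = ψ
    · rw [if_pos h, if_pos (e2.2 h), inv_mul_cancel₀ (Nat.cast_ne_zero.2 Fintype.card_ne_zero), one_smul]
    · rw [if_neg h, if_neg (e2.not.2 h), mul_zero, zero_smul]
  have h := congrArg (proj φ (fun b => e (ι b)) ψ * ·) (sum_proj (φ := φ) he)
  simp only [mul_one, ← χ.sum_comp, Finset.mul_sum, key] at h
  have h2 := congrArg (LinearMap.trace ℂ V) h
  rw [map_sum, trace_proj he' ψ] at h2
  have h3 : ((∑ i, if (χ i).compAddMonoidHom ι = ψ then dd φ e (χ i) else 0 : ℕ) : ℂ) = (dd φ (fun b => e (ι b)) ψ : ℂ) := by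
    rw [← h2, Nat.cast_sum]
    refine Finset.sum_congr rfl fun i _ => ?_
    split_ifs <;> simp [trace_proj he]
  exact_mod_cast h3.symm

/-- Conjugate embeddings have the same multiplicities. -/
theorem dd_conj' {B : Type*} [AddCommGroup B] [Fintype B] {e e' : B → G}
    (he : ∀ a b, e a * e b = e (a + b)) (he' : ∀ a b, e' a * e' b = e' (a + b)) (g : G) (σ : B ≃+ B)
    (hσ : ∀ a, g * e a * g⁻¹ = e' (σ a)) {ψ ψ' : AddChar B ℂ} (h : ∀ a, ψ (σ a) = ψ' a) :
    dd φ e ψ' = dd φ e' ψ := by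
  have hc : φ g * proj φ e ψ' * φ g⁻¹ = proj φ e' ψ := by
    rw [proj, proj, mul_smul_comm, smul_mul_assoc, Finset.mul_sum, Finset.sum_mul]
    congr 1
    refine Fintype.sum_equiv σ.toEquiv _ _ fun a => ?_
    rw [mul_smul_comm, smul_mul_assoc, ← map_mul, ← map_mul, hσ, ← h]
    simp
  have h1 := congrArg (LinearMap.trace ℂ V) hc
  rw [LinearMap.trace_mul_comm, ← mul_assoc, ← map_mul, inv_mul_cancel, map_one, one_mul, trace_proj he,
    trace_proj he'] at h1
  exact_mod_cast h1

/-- A linear map commutes with the eigenprojection when it fixes each element of the group. -/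
theorem proj_comm {A : Type*} [AddCommGroup A] [Fintype A] (e : A → G) (g : G) (σ : A ≃+ A)
    (hσ : ∀ a, g * e a * g⁻¹ = e (σ a)) (ψ : AddChar A ℂ) (h : ∀ a, ψ (σ a) = ψ a) :
    φ g * proj φ e ψ = proj φ e ψ * φ g := by
  rw [proj, mul_smul_comm, smul_mul_assoc, Finset.mul_sum, Finset.sum_mul]
  congr 1
  refine Fintype.sum_equiv σ.toEquiv _ _ fun a => ?_
  rw [mul_smul_comm, smul_mul_assoc, ← map_mul, ← map_mul]
  show ψ (-a) • φ (g * e a) = ψ (-(σ a)) • φ (e (σ a) * g)
  rw [← map_neg σ, h, ← hσ, inv_mul_cancel_right]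

/-- The elements mapping a subspace onto itself. -/
def stab (Y : Submodule ℂ V) : Subgroup G where
  carrier := {g | (∀ v ∈ Y, φ g v ∈ Y) ∧ ∀ v ∈ Y, φ g⁻¹ v ∈ Y}
  one_mem' := ⟨fun v hv => by rwa [map_one], fun v hv => by rwa [inv_one, map_one]⟩
  mul_mem' := fun {a b} ha hb => ⟨fun v hv => by rw [act_end]; exact ha.1 _ (hb.1 v hv),
    fun v hv => by rw [mul_inv_rev, act_end]; exact hb.2 _ (ha.2 v hv)⟩
  inv_mem' := fun {a} ha => ⟨ha.2, fun v hv => by rw [inv_inv]; exact ha.1 v hv⟩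

theorem mem_stab_of {Y : Submodule ℂ V} {g : G} (h : ∀ v ∈ Y, φ g v ∈ Y) : g ∈ stab φ Y := by
  refine ⟨h, fun v hv => ?_⟩
  have hinj : Function.Injective ((φ g).restrict h) := fun a b e => by
    have e1 : φ g a = φ g b := congrArg Subtype.val e
    have e2 := congrArg (φ g⁻¹) e1
    rw [← act_end, ← act_end, inv_mul_cancel, map_one] at e2
    exact Subtype.ext e2
  obtain ⟨u, hu⟩ := (LinearMap.injective_iff_surjective.1 hinj) ⟨v, hv⟩
  have e1 : φ g u = v := congrArg Subtype.val hu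
  rw [← e1, ← act_end, inv_mul_cancel, map_one]
  exact u.2

/-- The action on a stable subspace. -/
noncomputable def res (Y : Submodule ℂ V) : ↥(stab φ Y) →* Module.End ℂ Y where
  toFun g := (φ g).restrict g.2.1
  map_one' := LinearMap.ext fun v => Subtype.ext (by simp)
  map_mul' a b := LinearMap.ext fun v => Subtype.ext (by simp)

@[simp] theorem res_apply (Y : Submodule ℂ V) (g : ↥(stab φ Y)) (v : Y) :
    ((res φ Y g v : Y) : V) = φ g v := rfl

theorem res_proj (Y : Submodule ℂ V) {A : Type*} [AddCommGroup A] [Fintype A] (e : A → ↥(stab φ Y))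
    (ψ : AddChar A ℂ) (v : Y) :
    ((proj (res φ Y) e ψ v : Y) : V) = proj φ (fun a => (e a : G)) ψ v := by
  simp [proj, res]

theorem res_dd_le (Y : Submodule ℂ V) {A : Type*} [AddCommGroup A] [Fintype A] (e : A → ↥(stab φ Y))
    (ψ : AddChar A ℂ) : dd (res φ Y) e ψ ≤ dd φ (fun a => (e a : G)) ψ := by
  let f : LinearMap.range (proj (res φ Y) e ψ) →ₗ[ℂ] LinearMap.range (proj φ (fun a => (e a : G)) ψ) :=
    LinearMap.codRestrict _ (Y.subtype.comp (Submodule.subtype _)) fun u => by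
      obtain ⟨w, hw⟩ := u.2
      exact ⟨(w : V), by rw [← res_proj]; exact congrArg Subtype.val hw⟩
  refine LinearMap.finrank_le_finrank_of_injective (f := f) fun a b h => ?_
  exact Subtype.ext (Subtype.ext (congrArg Subtype.val h :))

/-- A stable subspace has a stable projection onto it. -/
theorem exists_equivariant (S : Subgroup G) [Finite S] (Z : Submodule ℂ V)
    (hZ : ∀ s ∈ S, ∀ v ∈ Z, φ s v ∈ Z) :
    ∃ π : Module.End ℂ V, (∀ v, π v ∈ Z) ∧ (∀ v ∈ Z, π v = v) ∧ ∀ s ∈ S, π * φ s = φ s * π := by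
  classical
  cases nonempty_fintype S
  obtain ⟨p, hp⟩ := Z.subtype.exists_leftInverse_of_injective (Submodule.ker_subtype Z)
  let P : Module.End ℂ V := Z.subtype.comp p
  have hPmem : ∀ v, P v ∈ Z := fun v => (p v).2
  have hPfix : ∀ v ∈ Z, P v = v := fun v hv => by
    show ((p v : Z) : V) = v
    exact congrArg Subtype.val (LinearMap.congr_fun hp ⟨v, hv⟩)
  refine ⟨(Fintype.card S : ℂ)⁻¹ • ∑ s : S, φ s * P * φ (s : G)⁻¹, fun v => ?_, fun v hv => ?_, fun t ht => ?_⟩
  · rw [LinearMap.smul_apply, LinearMap.sum_apply]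
    exact Z.smul_mem _ (Z.sum_mem fun s _ => hZ s s.2 _ (hPmem _))
  · rw [LinearMap.smul_apply, LinearMap.sum_apply, Finset.sum_congr rfl fun (s : S) _ => show
      (φ s * P * φ (s : G)⁻¹) v = v by
        rw [Module.End.mul_apply, Module.End.mul_apply, hPfix _ (hZ _ (inv_mem s.2) v hv), act_cancel],
      Finset.sum_const, Finset.card_univ, ← Nat.cast_smul_eq_nsmul ℂ, smul_smul,
      inv_mul_cancel₀ (Nat.cast_ne_zero.2 Fintype.card_ne_zero), one_smul]
  · rw [smul_mul_assoc, mul_smul_comm, Finset.sum_mul, Finset.mul_sum]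
    congr 1
    refine (Fintype.sum_equiv (Equiv.mulLeft (⟨t, ht⟩ : S)) _ _ fun s => ?_).symm
    rw [Equiv.coe_mulLeft, Subgroup.coe_mul, mul_inv_rev, map_mul φ, map_mul φ]
    simp only [mul_assoc]
    rw [← map_mul φ t⁻¹ t, inv_mul_cancel, map_one, mul_one]

/-- A subspace containing a vector with no other fixed vectors in it is irreducible. -/
theorem irreducible_of_unique_fixed (S U : Subgroup G) [Finite S] (hUS : U ≤ S) {l : V} (hl : l ≠ 0)
    (hfix : ∀ u ∈ U, φ u l = l) {Y : Submodule ℂ V} (hY : ∀ s ∈ S, ∀ v ∈ Y, φ s v ∈ Y)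
    (hlY : l ∈ Y) (hgen : ∀ Z : Submodule ℂ V, (∀ s ∈ S, ∀ v ∈ Z, φ s v ∈ Z) → l ∈ Z → Y ≤ Z)
    (huniq : ∀ v ∈ Y, (∀ u ∈ U, φ u v = v) → ∃ c : ℂ, v = c • l) :
    ∃ ρ : Representation ℂ S Y, ρ.IsIrreducible := by
  let ρ : Representation ℂ S Y :=
    { toFun := fun s => (φ s).restrict (hY s s.2)
      map_one' := LinearMap.ext fun v => Subtype.ext (by simp)
      map_mul' := fun a b => LinearMap.ext fun v => Subtype.ext (by simp) }
  refine ⟨ρ, ?_⟩
  have hne : (⊥ : Subrepresentation ρ) ≠ ⊤ := fun h => hl (by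
    have h2 : (⟨l, hlY⟩ : Y) ∈ (⊥ : Submodule ℂ Y) := by
      have := congrArg Subrepresentation.toSubmodule h
      rw [show (⊥ : Submodule ℂ Y) = ⊤ from this]
      trivial
    exact congrArg Subtype.val ((Submodule.mem_bot ℂ).1 h2))
  haveI : Nontrivial (Subrepresentation ρ) := ⟨⟨⊥, ⊤, hne⟩⟩
  refine ⟨fun W => ?_⟩
  let Z : Submodule ℂ V := W.toSubmodule.map Y.subtype
  have hZY : ∀ v ∈ Z, v ∈ Y := fun v ⟨w, _, e⟩ => e ▸ w.2
  have hZs : ∀ s ∈ S, ∀ v ∈ Z, φ s v ∈ Z := fun s hs v ⟨w, hw, e⟩ =>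
    ⟨ρ ⟨s, hs⟩ w, W.apply_mem_toSubmodule _ hw, by subst e; rfl⟩
  obtain ⟨π, hπZ, hπfix, hπc⟩ := exists_equivariant φ S Z hZs
  have hπl : ∀ u ∈ U, φ u (π l) = π l := fun u hu => by
    rw [← Module.End.mul_apply, ← hπc u (hUS hu), Module.End.mul_apply, hfix u hu]
  obtain ⟨c, hc⟩ := huniq _ (hZY _ (hπZ l)) hπl
  rcases eq_or_ne c 0 with rfl | hc0
  · left
    apply Subrepresentation.toSubmodule_injective
    show W.toSubmodule = ⊥
    rw [zero_smul] at hc
    have hker : Y ≤ LinearMap.ker π := hgen _ (fun s hs v hv => by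
      rw [LinearMap.mem_ker] at hv ⊢
      rw [← Module.End.mul_apply, hπc s hs, Module.End.mul_apply, hv, map_zero]) hc
    rw [Submodule.eq_bot_iff]
    intro w hw
    have h1 : π (w : V) = w := hπfix _ ⟨w, hw, rfl⟩
    rw [LinearMap.mem_ker.1 (hker w.2)] at h1
    exact Subtype.ext h1.symm
  · right
    apply Subrepresentation.toSubmodule_injective
    show W.toSubmodule = ⊤
    have hlZ : l ∈ Z := by
      have := Z.smul_mem c⁻¹ (hπZ l)
      rwa [hc, smul_smul, inv_mul_cancel₀ hc0, one_smul] at this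
    rw [Submodule.eq_top_iff']
    intro y
    obtain ⟨w, hw, e⟩ := hgen Z hZs hlZ y.2
    rwa [← (Subtype.ext e : w = y)]

/-- The smallest stable subspace containing a set. -/
def cyc (S : Subgroup G) (X : Set V) : Submodule ℂ V :=
  Submodule.span ℂ {v | ∃ s ∈ S, ∃ x ∈ X, v = φ s x}

theorem cyc_stable (S : Subgroup G) (X : Set V) : ∀ s ∈ S, ∀ v ∈ cyc φ S X, φ s v ∈ cyc φ S X := by
  intro s hs v hv
  have h : (cyc φ S X).map (φ s) ≤ cyc φ S X := by
    rw [cyc, Submodule.map_span]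
    refine Submodule.span_mono ?_
    rintro _ ⟨_, ⟨t, ht, x, hx, rfl⟩, rfl⟩
    exact ⟨s * t, mul_mem hs ht, x, hx, (act_end φ s t x).symm⟩
  exact h ⟨v, hv, rfl⟩

theorem mem_cyc (S : Subgroup G) (X : Set V) {x : V} (hx : x ∈ X) : x ∈ cyc φ S X :=
  Submodule.subset_span ⟨1, one_mem S, x, hx, by rw [map_one]; rfl⟩

theorem cyc_le (S : Subgroup G) (X : Set V) (Z : Submodule ℂ V) (hZ : ∀ s ∈ S, ∀ v ∈ Z, φ s v ∈ Z)
    (hX : X ⊆ Z) : cyc φ S X ≤ Z :=
  Submodule.span_le.2 fun _ ⟨s, hs, x, hx, e⟩ => e ▸ hZ s hs x (hX hx)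

/-- An operator that commutes with a subgroup and is scalar on generators is scalar on what they generate. -/
theorem scalar_cyc (S : Subgroup G) (X : Set V) (h : G) (c : ℂ) (hc : ∀ s ∈ S, Commute h s)
    (hX : ∀ x ∈ X, φ h x = c • x) : ∀ v ∈ cyc φ S X, φ h v = c • v := by
  intro v hv
  have hle : cyc φ S X ≤ LinearMap.ker (φ h - c • 1) := cyc_le φ S X _ (fun s hs w hw => by
    rw [LinearMap.mem_ker, LinearMap.sub_apply, sub_eq_zero, LinearMap.smul_apply, Module.End.one_apply] at hw ⊢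
    rw [← act_end, (hc s hs).eq, act_end, hw, map_smul]) fun x hx => by
    rw [SetLike.mem_coe, LinearMap.mem_ker, LinearMap.sub_apply, sub_eq_zero, LinearMap.smul_apply,
      Module.End.one_apply, hX x hx]
  simpa [sub_eq_zero] using hle hv

end general

section field

variable {F : Type*} [Field F] [Fintype F]

/-- A character of the field. -/
noncomputable def psi : AddChar F ℂ := AddChar.FiniteField.primitiveChar_to_Complex F

theorem psi_nd {a : F} (h : ∀ l, psi (a * l) = 1) : a = 0 := by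
  by_contra ha
  exact AddChar.FiniteField.primitiveChar_to_Complex_isPrimitive F ha (DFunLike.ext _ _ h)

theorem ch_ne_zero {A : Type*} [AddCommGroup A] (χ : AddChar A ℂ) (a : A) : χ a ≠ 0 := fun h => by
  have := AddChar.map_add_eq_mul χ a (-a)
  rw [h, zero_mul, add_neg_cancel, AddChar.map_zero_eq_one] at this
  exact one_ne_zero this

/-- The characters of the field. -/
noncomputable def ch (s : F) : AddChar F ℂ := (psi (F := F)).mulShift s

theorem ch_apply (s a : F) : ch s a = psi (s * a) := rfl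

theorem ch_inj : Function.Injective (ch (F := F)) := fun s s' h => sub_eq_zero.1 (psi_nd fun l => by
  have h1 := DFunLike.congr_fun h l
  simp only [ch_apply] at h1
  rw [sub_mul, AddChar.map_sub_eq_div, h1, div_self (ch_ne_zero _ _)])

/-- All characters of the field. -/
noncomputable def chE : F ≃ AddChar F ℂ :=
  Equiv.ofBijective ch ((Fintype.bijective_iff_injective_and_card _).2 ⟨ch_inj, AddChar.card_eq.symm⟩)

theorem chE_apply (s : F) : chE s = ch s := rfl

/-- Characters of a product. -/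
noncomputable def cp {A B : Type*} [AddCommGroup A] [AddCommGroup B] (χ : AddChar A ℂ) (θ : AddChar B ℂ) :
    AddChar (A × B) ℂ := χ.compAddMonoidHom (AddMonoidHom.fst A B) * θ.compAddMonoidHom (AddMonoidHom.snd A B)

theorem cp_apply {A B : Type*} [AddCommGroup A] [AddCommGroup B] (χ : AddChar A ℂ) (θ : AddChar B ℂ) (p : A × B) :
    cp χ θ p = χ p.1 * θ p.2 := rfl

/-- All characters of a product. -/
noncomputable def cpE {A B I J : Type*} [AddCommGroup A] [AddCommGroup B] [Fintype A] [Fintype B] [Fintype I]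
    [Fintype J] (χ : I ≃ AddChar A ℂ) (θ : J ≃ AddChar B ℂ) : I × J ≃ AddChar (A × B) ℂ :=
  Equiv.ofBijective (fun p => cp (χ p.1) (θ p.2)) ((Fintype.bijective_iff_injective_and_card _).2
    ⟨fun p p' h => by
      refine Prod.ext (χ.injective (DFunLike.ext _ _ fun a => ?_)) (θ.injective (DFunLike.ext _ _ fun b => ?_))
      · simpa [cp_apply] using DFunLike.congr_fun h (a, 0)
      · simpa [cp_apply] using DFunLike.congr_fun h (0, b), by
      rw [Fintype.card_prod, AddChar.card_eq, Fintype.card_congr χ, Fintype.card_congr θ, AddChar.card_eq,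
        AddChar.card_eq, Fintype.card_prod]⟩)

theorem psi_comp_mul_eq_one {s t : F} (ht : t ≠ 0) (h : ∀ l, psi (s * t * l) = 1) : s = 0 :=
  (mul_eq_zero.1 (psi_nd h)).resolve_right ht

end field

end Cfsg.Lib.GTwoDeg
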