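import Cfsg.Agent.Chev.GTwoOdd.Cent

/-! Root, torus and monomial elements of `G₂` as elements of the group, and relations between them. -/

set_option autoImplicit false
set_option linter.unusedSectionVars false

open Cfsg.Lie

namespace Cfsg.Lib.GTwoDeg

open Cfsg.Lib.Chev
open Cfsg.Lib.GTwoInv (S2 half_eq x x_add x_zero i0 i1 wv)
open Cfsg.Lib.GTwoOdd (T T_conj T_mem_group cA cB x_inj fb fb_uM fb_lM fb_dM fb_wM dM mat_dM)

/-- The group. -/
abbrev G2 (F : Type*) [Field F] : Type _ := ↥(chevG2.group F)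

variable {F : Type*} [Field F]

/-- A root element. -/
noncomputable def g (r : ℕ) (t : F) : G2 F := ⟨x r t, S2.ok.xG_mem_group r t⟩

theorem g_val (r : ℕ) (t : F) : (g r t : GL chevG2.Idx F) = x r t := rfl

theorem g_add (r : ℕ) (s t : F) : g r s * g r t = g r (s + t) := Subtype.ext (x_add r s t)

theorem g_zero (r : ℕ) : g r (0 : F) = 1 := Subtype.ext (x_zero r)

theorem g_inv (r : ℕ) (t : F) : (g r t)⁻¹ = g r (-t) :=
  inv_eq_of_mul_eq_one_right (by rw [g_add, add_neg_cancel, g_zero])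

theorem g_inj {r : ℕ} (hr : r < 12) {s t : F} (h : g r s = g r t) : s = t := x_inj hr (congrArg Subtype.val h)

/-- The torus element with values `u`, `v` at the fundamental roots. -/
noncomputable def tt (u v : Fˣ) : G2 F := ⟨T (u, v), T_mem_group _⟩

theorem tt_mul (u v u' v' : Fˣ) : tt u v * tt u' v' = tt (u * u') (v * v') := Subtype.ext (map_mul T _ _).symm

theorem tt_conj {r : ℕ} (hr : r < 12) (u v : Fˣ) (t : F) :
    tt u v * g r t * (tt u v)⁻¹ = g r (((u ^ cA r * v ^ cB r : Fˣ) : F) * t) := Subtype.ext (T_conj hr (u, v) t)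

theorem coeff_tab : (List.range 12).map (fun r => (cA r, cB r)) =
    [(-3, -2), (-3, -1), (-2, -1), (-1, -1), (-1, 0), (0, -1), (0, 1), (1, 0), (1, 1), (2, 1), (3, 1), (3, 2)] :=
  Cfsg.Lib.GTwoOdd.coeff_vals

/-- Conjugation carries one root subgroup onto another. -/
def Mv (n : G2 F) (r r' : ℕ) : Prop := ∃ c : F, c ≠ 0 ∧ ∀ u : F, n * g r u * n⁻¹ = g r' (c * u)

theorem Mv.inv {n : G2 F} {r r' : ℕ} (h : Mv n r r') : Mv n⁻¹ r' r := by
  obtain ⟨c, hc, e⟩ := h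
  refine ⟨c⁻¹, inv_ne_zero hc, fun u => ?_⟩
  have := e (c⁻¹ * u)
  rw [← mul_assoc c, mul_inv_cancel₀ hc, one_mul] at this
  rw [← this]
  group

theorem Mv.mul {n m : G2 F} {r r' r'' : ℕ} (h : Mv n r' r'') (h' : Mv m r r') : Mv (n * m) r r'' := by
  obtain ⟨c, hc, e⟩ := h
  obtain ⟨c', hc', e'⟩ := h'
  refine ⟨c * c', mul_ne_zero hc hc', fun u => ?_⟩
  rw [show n * m * g r u * (n * m)⁻¹ = n * (m * g r u * m⁻¹) * n⁻¹ by group, e', e, mul_assoc]

theorem mv_tt {r : ℕ} (hr : r < 12) (u v : Fˣ) : Mv (tt u v) r r :=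
  ⟨_, Units.ne_zero _, tt_conj hr u v⟩

/-- The monomial element of a fundamental root. -/
noncomputable def nn (i : ℕ) : G2 F := ⟨S2.ok.nG (chevG2.simple i) (1 : F), S2.ok.nG_mem_group _ _⟩

theorem w_tab : (List.range 12).map (wv [i0]) = [0, 5, 3, 2, 7, 1, 10, 4, 9, 8, 6, 11] ∧
    (List.range 12).map (wv [i1]) = [1, 0, 2, 4, 3, 6, 5, 8, 7, 9, 11, 10] := by decide +kernel

theorem mv_nn {i r : ℕ} (hi : i < 2) (hr : r < 12) : Mv (nn i : G2 F) r (G2.cert.w i r) := by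
  refine ⟨((G2.cert.eta i r : ℤ) : F), ?_, fun u => Subtype.ext
    (S2.ok.conj_nG_xG (F := F) hi (half_eq.2.symm ▸ hr) u)⟩
  rcases Cfsg.Lib.Chev.Ok.eta_cases Cfsg.Lib.Chev.G2.cert i r with e | e <;> rw [e] <;> simp

/-- `n_a`. -/
noncomputable def n7 : G2 F := nn 0

/-- `n_b`. -/
noncomputable def n6 : G2 F := nn 1

theorem w_eq (i : Fin chevG2.rank) (r : ℕ) : G2.cert.w i.val r = wv [i] r := by
  simp [wv, Cert.wWord]

theorem mv7 {r r' : ℕ} (hr : r < 12) (h : wv [i0] r = r') : Mv (n7 : G2 F) r r' := by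
  subst h
  rw [← w_eq i0 r]
  exact mv_nn (by norm_num [i0]) hr

theorem mv6 {r r' : ℕ} (hr : r < 12) (h : wv [i1] r = r') : Mv (n6 : G2 F) r r' := by
  subst h
  rw [← w_eq i1 r]
  exact mv_nn (by norm_num [i1]) hr

theorem mv7_tab : ∀ p ∈ [(4, 7), (7, 4), (6, 10), (10, 6), (11, 11), (8, 9), (9, 8), (5, 1), (1, 5), (0, 0)],
    p.1 < 12 ∧ wv [i0] p.1 = p.2 := by decide +kernel

theorem mv6_tab : ∀ p ∈ [(6, 5), (5, 6), (10, 11), (11, 10), (9, 9), (8, 7), (7, 8), (1, 0), (0, 1), (4, 3), (3, 4)],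
    p.1 < 12 ∧ wv [i1] p.1 = p.2 := by decide +kernel

theorem move7 {r r' : ℕ}
    (h : (r, r') ∈ [(4, 7), (7, 4), (6, 10), (10, 6), (11, 11), (8, 9), (9, 8), (5, 1), (1, 5), (0, 0)]) :
    Mv (n7 : G2 F) r r' := mv7 (mv7_tab _ h).1 (mv7_tab _ h).2

theorem move6 {r r' : ℕ}
    (h : (r, r') ∈ [(6, 5), (5, 6), (10, 11), (11, 10), (9, 9), (8, 7), (7, 8), (1, 0), (0, 1), (4, 3), (3, 4)]) :
    Mv (n6 : G2 F) r r' := mv6 (mv6_tab _ h).1 (mv6_tab _ h).2

/-- The decomposition of a negative root element of `3a + b`. -/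
theorem exists_N {t : F} (ht : t ≠ 0) : ∃ (N : G2 F) (a b : F), g 1 t = g 10 a * N * g 10 b ∧
    Mv N 11 6 ∧ Mv N 6 11 ∧ Mv N 10 1 ∧ Mv N 5 0 := by
  obtain ⟨c, hc, e⟩ := move7 (F := F) (r := 5) (r' := 1) (by simp)
  obtain ⟨d, hd, ed⟩ := move7 (F := F) (r := 6) (r' := 10) (by simp)
  set s : F := t / c with hs
  have hs0 : s ≠ 0 := div_ne_zero ht hc
  set M : G2 F := g 6 (-s⁻¹) * g 5 s * g 6 (-s⁻¹) with hM
  have hMv : M = n6 * tt (-Units.mk0 s hs0)⁻¹ ((-Units.mk0 s hs0) ^ 2) := by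
    refine Subtype.ext ?_
    show x 6 (-s⁻¹) * x 5 s * x 6 (-s⁻¹) = S2.ok.nG (chevG2.simple 1) (1 : F) * T _
    rw [← fb_uM, ← fb_lM, ← fb_dM, show S2.ok.nG (chevG2.simple 1) (1 : F) = S2.nL F [i1] by
      simp [Struct.nL, i1], ← fb_wM, ← map_mul, ← map_mul, ← map_mul]
    congr 1
    apply mat_inj
    simp only [mat_mul, mat_uM, mat_lM, mat_wM, mat_dM, Units.val_neg, Units.val_mk0]
    ext i j
    fin_cases i <;> fin_cases j <;> simp [Matrix.mul_apply, Fin.sum_univ_two, hs0]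
  have h5 : g 5 s = g 6 s⁻¹ * M * g 6 s⁻¹ := by
    rw [hM]
    simp only [mul_assoc, g_add, neg_add_cancel, g_zero, mul_one]
    rw [← mul_assoc, g_add, add_neg_cancel, g_zero, one_mul]
  refine ⟨n7 * M * n7⁻¹, d * s⁻¹, d * s⁻¹, ?_, ?_, ?_, ?_, ?_⟩
  · rw [← ed, show t = c * s by rw [hs, mul_div_cancel₀ _ hc], ← e, h5]
    group
  all_goals rw [hMv]
  · exact ((move7 (r := 10) (r' := 6) (by simp)).mul ((move6 (r := 11) (r' := 10) (by simp)).mul
      (mv_tt (by norm_num) _ _))).mul (move7 (r := 11) (r' := 11) (by simp)).inv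
  · exact ((move7 (r := 11) (r' := 11) (by simp)).mul ((move6 (r := 10) (r' := 11) (by simp)).mul
      (mv_tt (by norm_num) _ _))).mul (move7 (r := 10) (r' := 6) (by simp)).inv
  · exact ((move7 (r := 5) (r' := 1) (by simp)).mul ((move6 (r := 6) (r' := 5) (by simp)).mul
      (mv_tt (by norm_num) _ _))).mul (move7 (r := 6) (r' := 10) (by simp)).inv
  · exact ((move7 (r := 0) (r' := 0) (by simp)).mul ((move6 (r := 1) (r' := 0) (by simp)).mul
      (mv_tt (by norm_num) _ _))).mul (move7 (r := 1) (r' := 5) (by simp)).inv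

theorem comm_tab : ∀ p ∈ [(10, 11), (9, 10), (9, 11), (8, 10), (8, 11), (7, 10), (7, 11), (6, 8), (6, 9), (6, 11),
    (1, 6), (0, 1), (5, 10)],
    p.1 < 12 ∧ p.2 < 12 ∧ p.2 ≠ p.1 ∧ p.2 ≠ chevG2.neg p.1 ∧ chevG2.commTerms p.1 p.2 = [] := by decide +kernel

theorem g_comm {r s : ℕ} (h : (r, s) ∈ [(10, 11), (9, 10), (9, 11), (8, 10), (8, 11), (7, 10), (7, 11), (6, 8),
    (6, 9), (6, 11), (1, 6), (0, 1), (5, 10)]) (t u : F) : Commute (g r t) (g s u) := by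
  obtain ⟨a, b, c, d, e⟩ := comm_tab _ h
  exact Subtype.ext (Cfsg.Lib.GTwoInv.commutes a b c d e t u).symm

theorem term_tab : chevG2.commTerms 6 10 = [(11, (1, (1, 1)))] ∧ chevG2.commTerms 7 9 = [(10, (3, (1, 1)))] ∧
    chevG2.commTerms 8 9 = [(11, (3, (1, 1)))] ∧ chevG2.commTerms 6 0 = [(1, (-1, (1, 1)))] ∧
    chevG2.commTerms 7 8 = [(9, (-2, (1, 1))), (10, (-3, (2, 1))), (11, (3, (1, 2)))] ∧
    chevG2.commTerms 6 7 = [(8, (1, (1, 1))), (9, (1, (1, 2))), (10, (-1, (1, 3))), (11, (-2, (2, 3)))] ∧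
    chevG2.commTerms 5 11 = [(10, (1, (1, 1)))] := by
  refine ⟨?_, ?_, ?_, ?_, ?_, ?_, ?_⟩ <;> decide +kernel

theorem neg_tab : chevG2.neg 6 = 5 ∧ chevG2.neg 7 = 4 ∧ chevG2.neg 8 = 3 ∧ chevG2.neg 5 = 6 := by decide +kernel

/-- A commutator formula with a single term. -/
theorem one_term {r s e : ℕ} {N : ℤ} (hr : r < 12) (hs : s < 12) (h1 : s ≠ r) (h2 : s ≠ chevG2.neg r)
    (h : chevG2.commTerms r s = [(e, (N, (1, 1)))]) (t u : F) :
    g s u * g r t = g r t * g s u * g e ((N : F) * -t * u) := by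
  refine Subtype.ext ?_
  show x s u * x r t = x r t * x s u * x e _
  rw [Cfsg.Lib.GTwoInv.comm hr hs h1 h2 t u, ChevalleyDatum.commWord, h]
  simp [Ok.wG, x]

theorem c610 (t u : F) : g 6 t * g 10 u * (g 6 t)⁻¹ = g 10 u * g 11 (t * u) := by
  obtain ⟨n1, -⟩ := neg_tab
  rw [mul_inv_eq_iff_eq_mul, mul_assoc _ (g 11 _), ← (g_comm (r := 6) (s := 11) (by simp) t _).eq, ← mul_assoc,
    one_term (by norm_num) (by norm_num) (by norm_num) (by rw [n1]; norm_num) term_tab.1 t u, mul_assoc, g_add]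
  simp [g_zero]

theorem c79 (t u : F) : g 7 t * g 9 u * (g 7 t)⁻¹ = g 9 u * g 10 (3 * t * u) := by
  obtain ⟨-, n1, -⟩ := neg_tab
  rw [mul_inv_eq_iff_eq_mul, mul_assoc _ (g 10 _), ← (g_comm (r := 7) (s := 10) (by simp) t _).eq, ← mul_assoc,
    one_term (by norm_num) (by norm_num) (by norm_num) (by rw [n1]; norm_num) term_tab.2.1 t u, mul_assoc, g_add]
  simp [g_zero]

theorem c89 (t u : F) : g 8 t * g 9 u * (g 8 t)⁻¹ = g 9 u * g 11 (3 * t * u) := by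
  obtain ⟨-, -, n1, -⟩ := neg_tab
  rw [mul_inv_eq_iff_eq_mul, mul_assoc _ (g 11 _), ← (g_comm (r := 8) (s := 11) (by simp) t _).eq, ← mul_assoc,
    one_term (by norm_num) (by norm_num) (by norm_num) (by rw [n1]; norm_num) term_tab.2.2.1 t u, mul_assoc, g_add]
  simp [g_zero]

theorem c511 (t u : F) : g 5 t * g 11 u * (g 5 t)⁻¹ = g 11 u * g 10 (t * u) := by
  obtain ⟨-, -, -, n1⟩ := neg_tab
  rw [mul_inv_eq_iff_eq_mul, mul_assoc _ (g 10 _), ← (g_comm (r := 5) (s := 10) (by simp) t _).eq, ← mul_assoc,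
    one_term (by norm_num) (by norm_num) (by norm_num) (by rw [n1]; norm_num) term_tab.2.2.2.2.2.2 t u, mul_assoc,
    g_add]
  simp [g_zero]

theorem c60 (t u : F) : (g 6 t)⁻¹ * g 0 u * g 6 t = g 0 u * g 1 (t * u) := by
  obtain ⟨n1, -⟩ := neg_tab
  rw [mul_assoc, one_term (by norm_num) (by norm_num) (by norm_num) (by rw [n1]; norm_num) term_tab.2.2.2.1 t u,
    mul_assoc, inv_mul_cancel_left]
  simp

theorem c78 (h3 : (3 : F) = 0) (t u : F) : g 7 t * g 8 u * (g 7 t)⁻¹ = g 8 u * g 9 (-2 * t * u) := by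
  obtain ⟨-, n1, -⟩ := neg_tab
  have hc : Commute (g 7 t) (g 9 (-2 * t * u)) := by
    have := c79 t (-2 * t * u)
    rw [h3, zero_mul, zero_mul, g_zero, mul_one, mul_inv_eq_iff_eq_mul] at this
    exact this
  rw [mul_inv_eq_iff_eq_mul, mul_assoc _ (g 9 _), ← hc.eq, ← mul_assoc]
  have e : g 8 u * g 7 t = g 7 t * g 8 u * g 9 (2 * t * u) := by
    refine Subtype.ext ?_
    show x 8 u * x 7 t = x 7 t * x 8 u * x 9 _
    rw [Cfsg.Lib.GTwoInv.comm (by norm_num) (by norm_num) (by norm_num) (by rw [n1]; norm_num) t u,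
      ChevalleyDatum.commWord, term_tab.2.2.2.2.1]
    simp only [Ok.wG, List.map_cons, List.map_nil, List.prod_cons, List.prod_nil, mul_one, pow_one, Int.cast_neg,
      Int.cast_ofNat, h3, neg_zero, zero_mul]
    rw [show S2.ok.xG 10 (0 : F) = 1 from x_zero 10, show S2.ok.xG 11 (0 : F) = 1 from x_zero 11, mul_one, mul_one]
    simp [x]
  rw [e, mul_assoc, g_add]
  simp [g_zero]

theorem c67 (t u : F) : g 7 u * g 6 t * (g 7 u)⁻¹ =
    g 6 t * g 7 u * (g 8 (-(t * u)) * g 9 (-(t * u ^ 2)) * g 10 (t * u ^ 3) * g 11 (-2 * t ^ 2 * u ^ 3)) * (g 7 u)⁻¹ := by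
  obtain ⟨n1, -⟩ := neg_tab
  congr 1
  refine Subtype.ext ?_
  show x 7 u * x 6 t = x 6 t * x 7 u * (x 8 _ * x 9 _ * x 10 _ * x 11 _)
  rw [Cfsg.Lib.GTwoInv.comm (by norm_num) (by norm_num) (by norm_num) (by rw [n1]; norm_num) t u,
    ChevalleyDatum.commWord, term_tab.2.2.2.2.2.1]
  simp [Ok.wG, x, mul_assoc]

/-- A vector fixed by all root subgroups is fixed by the group. -/
theorem gen_induction {P : G2 F → Prop} (h1 : P 1) (hm : ∀ a b, P a → P b → P (a * b)) (hi : ∀ a, P a → P a⁻¹)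
    (hx : ∀ r < 12, ∀ t, P (g r t)) : ∀ a, P a := by
  rintro ⟨a, ha⟩
  refine Subgroup.closure_induction (p := fun a ha => P ⟨a, ha⟩) ?_ h1 (fun a b _ _ => hm _ _) (fun a _ => hi _) ha
  rintro a ⟨r, t, hat⟩
  have hr : r.val < 12 := half_eq.2 ▸ r.isLt
  convert hx r hr t
  exact Subtype.ext (S2.ok.eq_xG (r := r) (by simpa [ChevalleyDatum.x] using hat))

end Cfsg.Lib.GTwoDeg
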