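import Cfsg.Agent.Chev.GTwoDeg.Small

/-! The degrees `q³ - 1` and `q³` do not occur for `q ≡ 1 mod 3`. -/

set_option autoImplicit false
set_option linter.unusedSectionVars false
set_option maxHeartbeats 1000000

open Cfsg.Lie
open Cfsg.Lib.TwDeg (proj dd act_end act_ne_zero act_cancel e_mul_proj mem_iff exists_mem line eigen_indep total
  proj_idem)
open Cfsg.Lib.GTwoOdd (cA cB)

namespace Cfsg.Lib.GTwoDeg

section general

variable {G : Type*} [Group G] {V : Type*} [AddCommGroup V] [Module ℂ V] [FiniteDimensional ℂ V]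
  {φ : G →* Module.End ℂ V} {A : Type*} [AddCommGroup A] [Fintype A] {e : A → G}

theorem dd_ne_zero (he : ∀ a b, e a * e b = e (a + b)) {ψ : AddChar A ℂ} {v : V} (hv0 : v ≠ 0)
    (hv : ∀ a, φ (e a) v = ψ a • v) : dd φ e ψ ≠ 0 := fun h =>
  hv0 (by
    have h2 : v ∈ LinearMap.range (proj φ e ψ) := (mem_iff he ψ v).2 hv
    rw [Submodule.finrank_eq_zero.1 (show Module.finrank ℂ (LinearMap.range (proj φ e ψ)) = 0 from h)] at h2
    simpa using h2)

end general

variable {F : Type*} [Field F] [Fintype F] {V : Type*} [AddCommGroup V] [Module ℂ V] [FiniteDimensional ℂ V]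
  (φ : G2 F →* Module.End ℂ V)

/-- The subgroup generated by the long root subgroups and the torus. -/
noncomputable def S (F : Type*) [Field F] : Subgroup (G2 F) :=
  Subgroup.closure ({x | ∃ r ∈ [0, 1, 5, 6, 10, 11], ∃ t, x = g r t} ∪ {x | ∃ u v, x = tt u v})

theorem g_mem_S {r : ℕ} (hr : r ∈ [0, 1, 5, 6, 10, 11]) (t : F) : g r t ∈ S F :=
  Subgroup.subset_closure (Or.inl ⟨r, hr, t, rfl⟩)

theorem tt_mem_S (u v : Fˣ) : tt u v ∈ S F := Subgroup.subset_closure (Or.inr ⟨u, v, rfl⟩)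

theorem n6_mem_S : (n6 : G2 F) ∈ S F := by
  have e : (n6 : G2 F) = g 6 1 * g 5 (-(1 : F)⁻¹) * g 6 1 := by
    refine Subtype.ext ?_
    show S2'.ok.nG (chevG2.simple 1) (1 : F) = _
    unfold Cfsg.Lib.Chev.Ok.nG
    rfl
  rw [e]
  exact mul_mem (mul_mem (g_mem_S (by simp) _) (g_mem_S (by simp) _)) (g_mem_S (by simp) _)
where
  S2' := @Cfsg.Lib.GTwoInv.S2

theorem commute_S {z : Fˣ} (hz : (z : F) ^ 3 = 1) : ∀ s ∈ S F, Commute (tt z 1) s := by
  intro s hs
  refine Subgroup.closure_induction (p := fun s _ => Commute (tt z 1) s) ?_ (Commute.one_right _)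
    (fun a b _ _ => Commute.mul_right) (fun a _ => Commute.inv_right) hs
  rintro x (⟨r, hr, t, rfl⟩ | ⟨u, v, rfl⟩)
  · have hz0 : z ^ 3 = 1 := Units.ext (by rw [Units.val_pow_eq_pow_val, hz, Units.val_one])
    have hz' : z ^ (3 : ℤ) = 1 := by rw [zpow_ofNat]; exact hz0
    have hr' : r < 12 ∧ (cA r = 0 ∨ cA r = 3 ∨ cA r = -3) := by
      revert r
      decide +kernel
    refine mul_inv_eq_iff_eq_mul.1 ?_
    rw [tt_conj hr'.1, one_zpow, mul_one]
    rcases hr'.2 with e | e | e <;> rw [e] <;> simp [zpow_neg, hz']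
  · show tt z 1 * tt u v = tt u v * tt z 1
    rw [tt_mul, tt_mul, mul_comm z, mul_comm 1]

/-- The projection onto the fixed space. -/
noncomputable def P2 : Module.End ℂ V := proj φ e2 (chi2 ((0 : F), 0))

theorem P2_mem (v : V) : P2 φ v ∈ M φ := ⟨v, rfl⟩

theorem P2_fix {v : V} (hv : v ∈ M φ) : P2 φ v = v := by
  obtain ⟨w, rfl⟩ := hv
  rw [P2, ← Module.End.mul_apply, proj_idem (φ := φ) (e := e2 (F := F)) e2_add]

theorem P2_comm {a : G2 F} (σ : F × F ≃+ F × F) (h : ∀ p, a * e2 p * a⁻¹ = e2 (σ p)) (v : V) :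
    φ a (P2 φ v) = P2 φ (φ a v) :=
  LinearMap.congr_fun (proj_comm φ e2 a σ h _ fun p => by simp [chi2_zero]) v

theorem P2_e2 (p : F × F) (v : V) : P2 φ (φ (e2 p) v) = P2 φ v := by
  rw [← P2_comm φ (AddEquiv.refl _) (fun r => by
    rw [e2_add, add_comm, ← e2_add, mul_inv_cancel_right]; rfl), ← Module.End.mul_apply, P2,
    e_mul_proj (φ := φ) (e := e2 (F := F)) e2_add]
  simp [chi2_zero]

theorem P2_10 (t : F) (v : V) : P2 φ (φ (g 10 t) v) = P2 φ v := by rw [← e2_10, P2_e2]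

theorem P2_11 (t : F) (v : V) : P2 φ (φ (g 11 t) v) = P2 φ v := by rw [← e2_11, P2_e2]

theorem P2_g6 (r : F) (v : V) : φ (g 6 r) (P2 φ v) = P2 φ (φ (g 6 r) v) :=
  P2_comm φ
    { toFun := fun p => (p.1, p.2 + r * p.1)
      invFun := fun p => (p.1, p.2 - r * p.1)
      left_inv := fun p => by simp
      right_inv := fun p => by simp
      map_add' := fun p q => by ext <;> simp; ring } (g6_e2 r) v

theorem g5_e2 (r : F) (p : F × F) : g 5 r * e2 p * (g 5 r)⁻¹ = e2 (p.1 + r * p.2, p.2) := by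
  rw [e2, conj_prod, c511, conj_fix (g_comm (r := 5) (s := 10) (by simp) r p.1),
    ← (g_comm (r := 10) (s := 11) (by simp) (r * p.2) p.2).eq, ← mul_assoc, g_add]
  rfl

theorem P2_g5 (r : F) (v : V) : φ (g 5 r) (P2 φ v) = P2 φ (φ (g 5 r) v) :=
  P2_comm φ
    { toFun := fun p => (p.1 + r * p.2, p.2)
      invFun := fun p => (p.1 - r * p.2, p.2)
      left_inv := fun p => by simp
      right_inv := fun p => by simp
      map_add' := fun p q => by ext <;> simp; ring } (g5_e2 r) v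

theorem P2_n6 (v : V) : φ n6 (P2 φ v) = P2 φ (φ n6 v) := by
  obtain ⟨k, k', hk, hk', e⟩ := n6_e2 (F := F)
  exact P2_comm φ
    { toFun := fun p => (k * p.2, k' * p.1)
      invFun := fun p => (k'⁻¹ * p.2, k⁻¹ * p.1)
      left_inv := fun p => by simp [hk, hk']
      right_inv := fun p => by simp [hk, hk']
      map_add' := fun p q => by ext <;> simp [mul_add] } e v

theorem P2_tt (u v : Fˣ) (w : V) : φ (tt u v) (P2 φ w) = P2 φ (φ (tt u v) w) :=
  P2_comm φ
    { toFun := fun p => ((u : F) ^ 3 * v * p.1, (u : F) ^ 3 * (v : F) ^ 2 * p.2)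
      invFun := fun p => (((u : F) ^ 3 * v)⁻¹ * p.1, ((u : F) ^ 3 * (v : F) ^ 2)⁻¹ * p.2)
      left_inv := fun p => by ext <;> simp <;> field_simp
      right_inv := fun p => by ext <;> simp <;> field_simp
      map_add' := fun p q => by ext <;> simp [mul_add] } (tt_e2 u v) w

theorem mem_stab_M {a : G2 F} (h : ∀ v, φ a (P2 φ v) = P2 φ (φ a v)) : a ∈ stab φ (M φ) :=
  mem_stab_of φ fun v hv => by rw [← P2_fix φ hv, h]; exact P2_mem φ _

theorem g6_stab (t : F) : g 6 t ∈ stab φ (M φ) := mem_stab_M φ (P2_g6 φ t)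

/-- The root subgroup of the long fundamental root on the fixed space. -/
noncomputable def e6 (t : F) : ↥(stab φ (M φ)) := ⟨g 6 t, g6_stab φ t⟩

theorem e6_add (a b : F) : e6 φ a * e6 φ b = e6 φ (a + b) := Subtype.ext (g_add 6 a b)

/-- The multiplicity of the trivial character on the fixed space. -/
noncomputable def L : ℕ := dd (res φ (M φ)) (e6 φ) (ch (0 : F))

theorem e6_const (s : Fˣ) :
    dd (res φ (M φ)) (e6 φ) (ch (s : F)) = dd (res φ (M φ)) (e6 φ) (ch (1 : F)) :=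
  Cfsg.Lib.TwDeg.dd_conj (φ := res φ (M φ)) (e := e6 φ) (e6_add φ)
    (⟨tt 1 s, mem_stab_M φ (P2_tt φ 1 s)⟩ : ↥(stab φ (M φ)))
    { toFun := fun a => (s : F) * a
      invFun := fun a => (s : F)⁻¹ * a
      left_inv := fun a => by simp
      right_inv := fun a => by simp
      map_add' := fun a b => by simp [mul_add] } (fun a => Subtype.ext (tt6 1 s a)) fun a => by
      simp [ch_apply]

/-- The data of the case in which the multiplicity is one. -/
structure Data where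
  h3 : (3 : F) ≠ 0
  h1 : m φ = 1
  q4 : 4 < Fintype.card F
  small : W φ ≤ Fintype.card F
  inj : Function.Injective φ
  nofix : ∀ v : V, (∀ a, φ a v = v) → v = 0
  z : Fˣ
  hz : (z : F) ^ 3 = 1
  hz1 : z ≠ 1

variable {φ}

theorem lines (X : Data φ) : ∃ u : Fˣ → V, (∀ s, u s ≠ 0) ∧ (∀ s, u s ∈ M φ) ∧
    (∀ s t, φ (g 6 t) (u s) = ch (s : F) t • u s) ∧
    (∃ c : ℂ, ∀ s, φ (tt X.z 1) (u s) = c • u s) ∧
    (∀ (s : Fˣ) (w : V), w ∈ M φ → (∀ t, φ (g 6 t) w = ch (s : F) t • w) → ∃ c : ℂ, w = c • u s) ∧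
    W φ = L φ + (Fintype.card F - 1) := by
  classical
  obtain ⟨u, h0, hM, h6, hh⟩ := exists_u φ X.h3 (exists_cube_ne_one X.q4) X.h1
  have hq := X.q4
  have htot := total (φ := res φ (M φ)) (e := e6 φ) (e6_add φ) chE
  rw [finrank_M, ← Finset.add_sum_erase Finset.univ _ (Finset.mem_univ (0 : F)),
    Finset.sum_congr rfl fun w hw => show dd (res φ (M φ)) (e6 φ) (chE w) = dd (res φ (M φ)) (e6 φ) (ch (1 : F)) from
      e6_const φ (Units.mk0 w (Finset.mem_erase.1 hw).1), Finset.sum_const,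
    Finset.card_erase_of_mem (Finset.mem_univ _), Finset.card_univ, smul_eq_mul] at htot
  have hne : dd (res φ (M φ)) (e6 φ) (ch (1 : F)) ≠ 0 := by
    refine dd_ne_zero (e6_add φ) (v := (⟨u 1, hM 1⟩ : ↥(M φ))) (fun e => h0 1 (congrArg Subtype.val e)) fun t => ?_
    exact Subtype.ext (by simpa [e6] using h6 1 t)
  have hone : dd (res φ (M φ)) (e6 φ) (ch (1 : F)) = 1 := by
    by_contra h2
    have : (Fintype.card F - 1) * 2 ≤ (Fintype.card F - 1) * dd (res φ (M φ)) (e6 φ) (ch (1 : F)) :=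
      Nat.mul_le_mul_left _ (by omega)
    have := X.small
    omega
  refine ⟨u, h0, hM, h6, hh X.z X.hz, fun s w hw hw6 => ?_, ?_⟩
  · obtain ⟨c, hc⟩ := line (φ := res φ (M φ)) (e := e6 φ) (e6_add φ) ((e6_const φ s).trans hone)
      (v := (⟨u s, hM s⟩ : ↥(M φ))) (u := ⟨w, hw⟩) (fun e => h0 s (congrArg Subtype.val e))
      (fun t => Subtype.ext (by simpa [e6] using h6 s t)) (fun t => Subtype.ext (by simpa [e6] using hw6 t))
    exact ⟨c, congrArg Subtype.val hc⟩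
  · rw [htot, hone, mul_one]; rfl

theorem top_false (X : Data φ) {c : ℂ} (h : ∀ v, φ (tt X.z 1) v = c • v) : False := by
  have hc : Commute (tt X.z 1) (g 7 (1 : F)) := X.inj (LinearMap.ext fun v => by
    rw [map_mul, map_mul, Module.End.mul_apply, Module.End.mul_apply, h, h, map_smul])
  have h1 := tt7 X.z 1 (1 : F)
  rw [hc.eq, mul_inv_cancel_right, mul_one] at h1
  exact X.hz1 (Units.ext (g_inj (by norm_num) h1).symm)

/-- The group of pairs inside the stabiliser of a subspace stable under `S`. -/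
theorem stable_split (X : Data φ) {Y : Submodule ℂ V} (hY : ∀ s ∈ S F, ∀ v ∈ Y, φ s v ∈ Y) :
    ∃ d0 μ : ℕ, Module.finrank ℂ Y = d0 + (Fintype.card F ^ 2 - 1) * μ ∧ d0 ≤ W φ ∧ μ ≤ Fintype.card F ∧
      (∀ Z : Submodule ℂ V, Z ≤ M φ → Z ≤ Y → Module.finrank ℂ Z ≤ d0) ∧
      (μ = 0 → ∀ d : F, ∀ v ∈ Y, φ (g 11 d) v = v) := by
  classical
  have hS : S F ≤ stab φ Y := fun s hs => mem_stab_of φ (hY s hs)
  have he2 : ∀ p : F × F, e2 p ∈ S F := fun p => mul_mem (g_mem_S (by simp) _) (g_mem_S (by simp) _)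
  let eY : F × F → ↥(stab φ Y) := fun p => ⟨e2 p, hS (he2 p)⟩
  have heY : ∀ a b, eY a * eY b = eY (a + b) := fun a b => Subtype.ext (e2_add a b)
  obtain ⟨k, k', hk, hk', en⟩ := n6_e2 (F := F)
  have hconst := const2 (res φ Y) eY heY (fun r => ⟨g 6 r, hS (g_mem_S (by simp) r)⟩)
    (fun r p => Subtype.ext (g6_e2 r p)) ⟨n6, hS n6_mem_S⟩ k k' hk hk' (fun p => Subtype.ext (en p))
    (fun v => ⟨tt 1 v, hS (tt_mem_S 1 v)⟩) (fun v p => Subtype.ext (tt1_e2 v p))
  refine ⟨dd (res φ Y) eY (chi2 0), dd (res φ Y) eY (chi2 (1, 0)), split2 _ eY heY hconst, ?_, ?_, ?_, ?_⟩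
  · exact res_dd_le φ Y eY _
  · refine (res_dd_le φ Y eY _).trans (le_of_eq ?_)
    show dd φ e2 (chi2 ((1 : F), 0)) = _
    rw [dd2_eq φ X.h3 _ (by simp), X.h1, mul_one]
  · intro Z hZM hZY
    let f : Z →ₗ[ℂ] LinearMap.range (proj (res φ Y) eY (chi2 0)) :=
      LinearMap.codRestrict _ (Submodule.inclusion hZY) fun v => (mem_iff heY _ _).2 fun p => Subtype.ext (by
        obtain ⟨a, b⟩ := (mem_M φ).1 (hZM v.2)
        show φ (e2 p) (v : V) = chi2 (0 : F × F) p • (v : V)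
        rw [e2, act_end, b, a, show chi2 (0 : F × F) = 0 from chi2_zero]; simp)
    exact LinearMap.finrank_le_finrank_of_injective (f := f) fun a b h =>
      Subtype.ext (congrArg (fun y => ((y.1 : Y) : V)) h)
  · intro hμ d v hv
    have h := LinearMap.congr_fun (Cfsg.Lib.TwDeg.sum_proj (φ := res φ Y) (e := eY) heY) ⟨v, hv⟩
    rw [LinearMap.sum_apply, Finset.sum_eq_single (chi2 (0 : F × F)) (fun ψ _ hψ => by
      obtain ⟨w, rfl⟩ := (chi2 (F := F)).surjective ψ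
      have hw : w ≠ 0 := fun e => hψ (by rw [e])
      have h0 : proj (res φ Y) eY (chi2 w) = 0 := by
        rw [← LinearMap.range_eq_bot, ← Submodule.finrank_eq_zero (R := ℂ)]
        exact (hconst w hw).trans hμ
      rw [h0, LinearMap.zero_apply]) (by simp), Module.End.one_apply] at h
    have h2 := (mem_iff (φ := res φ Y) (e := eY) heY (chi2 (0 : F × F)) ⟨v, hv⟩).1 ⟨_, h⟩ (0, d)
    have h4 := congrArg (fun y : Y => (y : V)) h2
    simp only [res_apply, Submodule.coe_smul] at h4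
    rw [show ((eY (0, d) : ↥(stab φ Y)) : G2 F) = g 11 d from e2_11 d,
      show chi2 (0 : F × F) = 0 from chi2_zero] at h4
    simpa using h4

theorem top_of_full (X : Data φ) {Y : Submodule ℂ V} {d0 μ : ℕ}
    (hD : Module.finrank ℂ Y = d0 + (Fintype.card F ^ 2 - 1) * μ) (h0 : d0 = W φ) (hμ : μ = Fintype.card F) :
    Y = ⊤ := Submodule.eq_top_of_finrank_eq (by rw [hD, split φ X.h3, X.h1, mul_one, h0, hμ])

theorem case_zero (X : Data φ) (hL : L φ = 0) : False := by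
  classical
  obtain ⟨u, h0, hM, h6, ⟨c, hc⟩, -, hW⟩ := lines X
  rw [hL, zero_add] at hW
  have hq := X.q4
  have hz : ∀ w ∈ M φ, (∀ t, φ (g 6 t) w = w) → w = 0 := fun w hw hw6 => by
    by_contra hw0
    refine dd_ne_zero (φ := res φ (M φ)) (e6_add φ) (ψ := ch (0 : F)) (v := (⟨w, hw⟩ : ↥(M φ)))
      (fun e => hw0 (congrArg Subtype.val e)) (fun t => Subtype.ext ?_) hL
    simpa [e6, ch_apply] using hw6 t
  have key : ∀ {N : G2 F}, Mv N 11 6 → ∀ y ∈ M φ, P2 φ (φ N y) = 0 := fun {N} hN y hy =>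
    hz _ (P2_mem φ _) fun t => by rw [P2_g6, fix_move φ hN ((mem_M φ).1 hy).2 t]
  have n6inv : ∀ y ∈ M φ, φ (n6 : G2 F)⁻¹ y ∈ M φ :=
    fun y hy => ((stab φ (M φ)).inv_mem (mem_stab_M φ (P2_n6 φ))).1 y hy
  have k1 : ∀ t : F, t ≠ 0 → ∀ y ∈ M φ, P2 φ (φ (g 1 t) y) = 0 := fun t ht y hy => by
    obtain ⟨N, a, b, e, hN, -⟩ := exists_N (F := F) ht
    rw [e, act_end, act_end, P2_10, ((mem_M φ).1 hy).1, key hN y hy]
  obtain ⟨c1, hc1, e1⟩ := move6 (F := F) (r := 1) (r' := 0) (by simp)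
  have k0 : ∀ t : F, t ≠ 0 → ∀ y ∈ M φ, P2 φ (φ (g 0 t) y) = 0 := fun t ht y hy => by
    have := e1 (t / c1)
    rw [mul_div_cancel₀ _ hc1] at this
    rw [← this, act_end, act_end, ← P2_n6, k1 _ (div_ne_zero ht hc1) _ (n6inv y hy), map_zero]
  let gab : F → F → G2 F := fun a b => g 1 a * g 0 b
  have gab_sub : ∀ a b a0 b0, (gab a0 b0)⁻¹ * gab a b = gab (a - a0) (b - b0) := fun a b a0 b0 => by
    show (g 1 a0 * g 0 b0)⁻¹ * (g 1 a * g 0 b) = g 1 (a - a0) * g 0 (b - b0)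
    rw [mul_inv_rev, g_inv, g_inv, sub_eq_add_neg, sub_eq_add_neg, ← g_add, ← g_add,
      show g 1 a * g 1 (-a0) = g 1 (-a0) * g 1 a by rw [g_add, g_add, add_comm],
      show g 0 b * g 0 (-b0) = g 0 (-b0) * g 0 b by rw [g_add, g_add, add_comm]]
    have c := g_comm (r := 0) (s := 1) (by simp) (-b0) (-a0)
    have c' := g_comm (r := 0) (s := 1) (by simp) (-b0) a
    calc _ = g 0 (-b0) * g 1 (-a0) * g 1 a * g 0 b := by group
      _ = g 1 (-a0) * (g 0 (-b0) * g 1 a) * g 0 b := by rw [c.eq]; group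
      _ = _ := by rw [c'.eq]; group
  have kab : ∀ a b : F, ¬(a = 0 ∧ b = 0) → ∀ s, P2 φ (φ (gab a b) (u s)) = 0 := by
    intro a b hab s
    rcases eq_or_ne b 0 with rfl | hb
    · rw [show gab a 0 = g 1 a by simp [gab, g_zero]]
      exact k1 a (fun e => hab ⟨e, rfl⟩) _ (hM s)
    · have e : gab a b = (g 6 (a / b))⁻¹ * g 0 b * g 6 (a / b) := by
        rw [c60, div_mul_cancel₀ _ hb, (g_comm (r := 0) (s := 1) (by simp) b a).eq]
      rw [e, act_end, act_end, g_inv, ← P2_g6, h6, map_smul, map_smul, k0 b hb _ (hM s), smul_zero, map_zero]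
  obtain ⟨N, an, bn, eN, hN116, -, hN101, hN50⟩ := exists_N (F := F) one_ne_zero
  have hNS : N ∈ S F := by
    rw [show N = (g 10 an)⁻¹ * g 1 1 * (g 10 bn)⁻¹ by rw [eN]; group]
    exact mul_mem (mul_mem (inv_mem (g_mem_S (by simp) _)) (g_mem_S (by simp) _)) (inv_mem (g_mem_S (by simp) _))
  let f : Option ((F × F) × Fˣ) → V := fun i => i.elim (φ N (u 1)) fun p => φ (gab p.1.1 p.1.2) (u p.2)
  let Y : Submodule ℂ V := cyc φ (S F) (Set.range u)
  have hY := cyc_stable φ (S F) (Set.range u)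
  have hu : ∀ s, u s ∈ Y := fun s => mem_cyc φ (S F) _ ⟨s, rfl⟩
  have hfY : ∀ i, f i ∈ Y := by
    rintro (_ | p)
    · exact hY N hNS _ (hu 1)
    · exact hY _ (mul_mem (g_mem_S (by simp) _) (g_mem_S (by simp) _)) _ (hu _)
  have hg5 : ∀ t : F, ∀ y ∈ M φ, φ (g 5 t) y ∈ M φ := fun t y hy => by
    rw [← P2_fix φ hy, P2_g5]; exact P2_mem φ _
  have hnone : ∀ a b : F, P2 φ (φ (gab a b)⁻¹ (φ N (u 1))) = 0 := by
    intro a b
    obtain ⟨c10, -, e10⟩ := hN101.inv
    obtain ⟨c5, -, e5⟩ := hN50.inv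
    rw [← act_end, show (gab a b)⁻¹ * N = N * (N⁻¹ * g 0 (-b) * N⁻¹⁻¹ * (N⁻¹ * g 1 (-a) * N⁻¹⁻¹)) by
      show (g 1 a * g 0 b)⁻¹ * N = _
      rw [mul_inv_rev, g_inv, g_inv]; group, e5, e10, act_end, act_end, ((mem_M φ).1 (hM 1)).1]
    exact key hN116 _ (hg5 _ _ (hM 1))
  have hli0 : LinearIndependent ℂ u := eigen_indep (φ := φ) (e := g (F := F) 6) (g_add 6) (fun s : Fˣ => ch (s : F))
    (fun s s' h => Units.ext (ch_inj h)) u h0 h6
  have hli : LinearIndependent ℂ f := by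
    rw [Fintype.linearIndependent_iff]
    intro co hco
    have hsome : ∀ p, co (some p) = 0 := by
      rintro ⟨⟨a0, b0⟩, s0⟩
      have h := congrArg (fun v => P2 φ (φ (gab a0 b0)⁻¹ v)) hco
      simp only [Fintype.sum_option, map_add, map_sum, map_smul, map_zero] at h
      rw [show P2 φ (φ (gab a0 b0)⁻¹ (f none)) = 0 from hnone a0 b0, smul_zero, zero_add, Fintype.sum_prod_type,
        Finset.sum_eq_single (a0, b0) (fun p _ hp => Finset.sum_eq_zero fun s _ => by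
          show _ • P2 φ (φ (gab a0 b0)⁻¹ (φ (gab p.1 p.2) (u s))) = 0
          rw [← act_end, gab_sub, kab _ _ (fun e => hp (Prod.ext (sub_eq_zero.1 e.1) (sub_eq_zero.1 e.2))),
            smul_zero]) (by simp),
        Finset.sum_congr rfl fun s _ => show co (some ((a0, b0), s)) • P2 φ (φ (gab a0 b0)⁻¹ (f (some ((a0, b0), s)))) =
          co (some ((a0, b0), s)) • u s by
          congr 1
          show P2 φ (φ (gab a0 b0)⁻¹ (φ (gab a0 b0) (u s))) = u s
          rw [← act_end, inv_mul_cancel, map_one, Module.End.one_apply, P2_fix φ (hM s)]] at h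
      exact Fintype.linearIndependent_iff.1 hli0 _ h s0
    rintro (_ | p)
    · simp only [Fintype.sum_option, hsome, zero_smul, Finset.sum_const_zero, add_zero] at hco
      exact (smul_eq_zero.1 hco).resolve_right (act_ne_zero φ N (h0 1))
    · exact hsome p
  have hDlow := (LinearIndependent.of_comp Y.subtype (v := fun i => (⟨f i, hfY i⟩ : Y)) hli).fintype_card_le_finrank
  rw [Fintype.card_option, Fintype.card_prod, Fintype.card_prod, Fintype.card_units, ← sq] at hDlow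
  obtain ⟨d0, μ, hD, hd0, hμ, hZ, -⟩ := stable_split X hY
  have hMY : M φ ≤ Y := by
    have e : Submodule.span ℂ (Set.range u) = M φ := by
      refine Submodule.eq_of_le_of_finrank_eq (Submodule.span_le.2 ?_) ?_
      · rintro _ ⟨s, rfl⟩; exact hM s
      · rw [finrank_span_eq_card hli0, Fintype.card_units, finrank_M, hW]
    rw [← e, Submodule.span_le]
    rintro _ ⟨s, rfl⟩
    exact hu s
  have hd0' : d0 = W φ := le_antisymm hd0 (by rw [← finrank_M]; exact hZ _ le_rfl hMY)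
  have hμ' : μ = Fintype.card F := by
    refine le_antisymm hμ ?_
    by_contra hlt
    have h0' := hDlow.trans hD.le
    have h1 : (Fintype.card F ^ 2 - 1) * μ ≤ (Fintype.card F ^ 2 - 1) * (Fintype.card F - 1) :=
      Nat.mul_le_mul_left _ (by omega)
    have h2 : (Fintype.card F ^ 2 - 1) * (Fintype.card F - 1) + (Fintype.card F - 1) =
        Fintype.card F ^ 2 * (Fintype.card F - 1) := by
      rw [← Nat.succ_mul, Nat.succ_eq_add_one, Nat.sub_add_cancel (Nat.one_le_pow _ _ (by omega))]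
    omega
  have hYtop := top_of_full X hD hd0' hμ'
  refine top_false X (c := c) fun v => ?_
  refine scalar_cyc φ (S F) (Set.range u) _ c (commute_S X.hz) ?_ v (Submodule.eq_top_iff'.1 hYtop v)
  rintro _ ⟨s, rfl⟩
  exact hc s

theorem num_one {q μ : ℕ} (hq : IsPrimePow q) (h4 : 4 < q) (hμ : 0 < μ) (hμq : μ < q)
    (h : q + (q ^ 2 - 1) * μ ∣ q ^ 6 * ((q ^ 2 - 1) * (q ^ 6 - 1))) : False := by
  obtain ⟨p, n, hp, -, rfl⟩ := (isPrimePow_nat_iff q).1 hq
  have hg : 0 < Nat.gcd μ (p ^ n) := Nat.gcd_pos_of_pos_left _ hμ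
  obtain ⟨μ', q', hc, hμ', hq'⟩ := Nat.exists_coprime μ (p ^ n)
  set g := Nat.gcd μ (p ^ n) with hgdef
  generalize hQ : p ^ n = q at h h4 hμq hq' ⊢
  have hq1 : 1 ≤ q ^ 2 := Nat.one_le_pow _ _ (by omega)
  set D' := q' + (q ^ 2 - 1) * μ' with hD'
  have hpq' : p ∣ q' := by
    have hdiv : q' ∣ p ^ n := ⟨g, by rw [hQ, hq']⟩
    obtain ⟨i, -, hi⟩ := (Nat.dvd_prime_pow hp).1 hdiv
    rcases Nat.eq_zero_or_pos i with rfl | hi0
    · exfalso
      rw [pow_zero] at hi
      subst hi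
      rw [one_mul] at hq'
      have : q ≤ μ := Nat.le_of_dvd hμ (hq' ▸ ⟨μ', by rw [hμ', mul_comm]⟩)
      omega
    · rw [hi]; exact dvd_pow_self p hi0.ne'
  have hpμ : ¬ p ∣ μ' := fun hh => hp.one_lt.ne' (Nat.eq_one_of_dvd_coprimes hc hh hpq').symm.symm
  have hpD : ¬ p ∣ D' := by
    intro hh
    have h1 : p ∣ (q ^ 2 - 1) * μ' := (Nat.dvd_add_right hpq').1 hh
    rcases (Nat.Prime.dvd_mul hp).1 h1 with h2 | h2
    · have h3 : p ∣ q ^ 2 := dvd_pow (hpq'.trans ⟨g, hq'⟩) two_ne_zero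
      have := Nat.dvd_sub h3 h2
      rw [Nat.sub_sub_self hq1] at this
      exact hp.one_lt.ne' (Nat.dvd_one.1 this)
    · exact hpμ h2
  have hcop : IsCoprime (D' : ℤ) (q : ℤ) := by
    rw [Int.isCoprime_iff_nat_coprime, Int.natAbs_natCast, Int.natAbs_natCast, ← hQ]
    exact Nat.Coprime.pow_right _ ((hp.coprime_iff_not_dvd.2 hpD).symm)
  have hz : ((D' : ℤ) * g) ∣ (q : ℤ) ^ 6 * (((q : ℤ) ^ 2 - 1) * ((q : ℤ) ^ 6 - 1)) := by
    have h' : D' * g ∣ q ^ 6 * ((q ^ 2 - 1) * (q ^ 6 - 1)) := by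
      rwa [show D' * g = q + (q ^ 2 - 1) * μ by rw [hD', add_mul, mul_assoc, ← hq', ← hμ']]
    have := Int.natCast_dvd_natCast.2 h'
    rw [Nat.cast_mul, Nat.cast_mul, Nat.cast_mul, Nat.cast_sub hq1, Nat.cast_sub (Nat.one_le_pow _ _ (by omega))] at this
    push_cast at this
    exact this
  have hD'z : (D' : ℤ) = (q' : ℤ) + ((q : ℤ) ^ 2 - 1) * μ' := by
    rw [hD', Nat.cast_add, Nat.cast_mul, Nat.cast_sub hq1]; push_cast; rfl
  set x := (q : ℤ)
  set a := (q' : ℤ)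
  set b := (μ' : ℤ)
  have hx : x = a * (g : ℤ) := by show (q : ℤ) = _; rw [hq']; push_cast; rfl
  have h1 := hcop.pow_right.dvd_of_dvd_mul_left (dvd_trans (dvd_mul_right _ _) hz)
  -- remove the factor `q² - 1`
  have hcop2 : IsCoprime (D' : ℤ) (x ^ 2 - 1) := by
    obtain ⟨s, t, hst⟩ := hcop
    have ha : IsCoprime a (x ^ 2 - 1) := ⟨x * (g : ℤ), -1, by rw [hx]; ring⟩
    rw [hD'z]
    exact IsCoprime.add_mul_left_left ha b
  rw [show x ^ 6 - 1 = (x ^ 2 - 1) * (x ^ 4 + x ^ 2 + 1) by ring] at h1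
  have h2 := hcop2.dvd_of_dvd_mul_left (hcop2.dvd_of_dvd_mul_left h1)
  -- the remainder
  have h3 : (D' : ℤ) ∣ (a - b) * (3 * (b * g) ^ 2 + 1) := by
    have e : (a - b) * (3 * (b * (g : ℤ)) ^ 2 + 1) + (g : ℤ) ^ 2 * b ^ 3 * (x ^ 4 + x ^ 2 + 1) =
        (D' : ℤ) * (1 + (g : ℤ) ^ 2 * b ^ 2 * (x ^ 2 + 2) - (g : ℤ) ^ 2 * a * b) +
          (-b * x ^ 2 + (g : ℤ) ^ 2 * a ^ 2 * b) := by
      rw [hD'z]; ring
    rw [show -b * x ^ 2 + (g : ℤ) ^ 2 * a ^ 2 * b = 0 by rw [hx]; ring, add_zero] at e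
    rw [eq_sub_of_add_eq e]
    exact dvd_sub (dvd_mul_right _ _) (Dvd.dvd.mul_left h2 _)
  have hg1 : (1 : ℤ) ≤ g := by exact_mod_cast hg
  have hb : (1 : ℤ) ≤ b := by
    have : μ' ≠ 0 := fun e => by rw [e, zero_mul] at hμ'; omega
    show (1 : ℤ) ≤ (μ' : ℤ)
    omega
  have hab : b < a := by
    show (μ' : ℤ) < (q' : ℤ)
    have : μ' * g < q' * g := by rw [← hμ', ← hq']; exact hμq
    exact_mod_cast Nat.lt_of_mul_lt_mul_right this
  have hpos : 0 < (a - b) * (3 * (b * g) ^ 2 + 1) := mul_pos (by omega) (by positivity)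
  have hle := Int.le_of_dvd hpos h3
  rw [hD'z] at hle
  have hbg : (1 : ℤ) ≤ b * g := by nlinarith
  have hkey : 0 < (g : ℤ) ^ 2 * b * (4 * (a ^ 2 - 3 * a * b + 3 * b ^ 2)) :=
    mul_pos (mul_pos (by positivity) (by linarith)) (by nlinarith [sq_nonneg (2 * a - 3 * b)])
  rw [hx] at hle
  nlinarith

theorem case_one (X : Data φ) (hL : L φ ≠ 0) : False := by
  classical
  obtain ⟨u, h0, hM, h6, -, hline, hW⟩ := lines X
  have hq := X.q4
  have hs := X.small
  have hL1 : L φ = 1 := by omega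
  obtain ⟨l', hl'0, hl'⟩ := exists_mem (φ := res φ (M φ)) (e := e6 φ) (e6_add φ) (ψ := ch (0 : F)) hL
  set l : V := (l' : V)
  have hl0 : l ≠ 0 := fun e => hl'0 (Subtype.ext e)
  have l6 : ∀ t, φ (g 6 t) l = l := fun t => by
    have := congrArg (fun y : ↥(M φ) => (y : V)) (hl' t)
    simpa [e6, ch_apply] using this
  have l10 : ∀ c, φ (g 10 c) l = l := ((mem_M φ).1 l'.2).1
  have l11 : ∀ c, φ (g 11 c) l = l := ((mem_M φ).1 l'.2).2
  have uniq : ∀ v ∈ M φ, (∀ t, φ (g 6 t) v = v) → ∃ c : ℂ, v = c • l := fun v hv hv6 => by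
    obtain ⟨c, hc⟩ := line (φ := res φ (M φ)) (e := e6 φ) (e6_add φ) (ψ := ch (0 : F)) hL1 (v := l')
      (u := ⟨v, hv⟩) hl'0 hl' fun t => Subtype.ext (by simpa [e6, ch_apply] using hv6 t)
    exact ⟨c, congrArg Subtype.val hc⟩
  have lT : ∀ a b : Fˣ, ∃ c : ℂ, φ (tt a b) l = c • l := fun a b =>
    uniq _ ((mem_M φ).2 ⟨fix_move φ (mv_tt (by norm_num) a b) l10, fix_move φ (mv_tt (by norm_num) a b) l11⟩)
      (fix_move φ (mv_tt (by norm_num) a b) l6)
  have lTi : ∀ a b : Fˣ, ∃ c : ℂ, φ (tt a b)⁻¹ l = c • l := fun a b => by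
    rw [show (tt a b : G2 F)⁻¹ = tt a⁻¹ b⁻¹ from inv_eq_of_mul_eq_one_right (by
      rw [tt_mul, mul_inv_cancel, mul_inv_cancel]; exact Subtype.ext (map_one _))]
    exact lT _ _
  obtain ⟨v0, hv0⟩ : ∃ v0 : Fˣ, v0 ≠ 1 := ⟨X.z, X.hz1⟩
  have hv0' : (v0 : F) ≠ 1 := fun e => hv0 (Units.ext e)
  have stay : ∀ {r : ℕ}, (r, 10) ∈ [(9, 10), (8, 10)] → (r, 11) ∈ [(9, 11), (8, 11)] → ∀ a,
      ∃ c : ℂ, φ (g r a) l = c • l := by
    intro r h10 h11 a
    have hr : r = 9 ∨ r = 8 := by simpa using h10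
    refine uniq _ ((mem_M φ).2 ⟨fun c => ?_, fun d => ?_⟩) fun t => ?_
    · rw [← act_end, ← (g_comm (r := r) (s := 10) (by rcases hr with rfl | rfl <;> simp) a c).eq, act_end, l10]
    · rw [← act_end, ← (g_comm (r := r) (s := 11) (by rcases hr with rfl | rfl <;> simp) a d).eq, act_end, l11]
    · rw [← act_end, (g_comm (r := 6) (s := r) (by rcases hr with rfl | rfl <;> simp) t a).eq, act_end, l6]
  have l9 : ∀ a, φ (g 9 a) l = l := fix_of_scale φ (g 9) (g_add 9) (T := tt 1 v0) hv0'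
    (fun a => by rw [tt9]; simp) hl0 (lTi _ _) (stay (by simp) (by simp))
  have l8 : ∀ a, φ (g 8 a) l = l := fix_of_scale φ (g 8) (g_add 8) (T := tt 1 v0) hv0'
    (fun a => by rw [tt8]; simp) hl0 (lTi _ _) (stay (by simp) (by simp))
  have l7 : ∀ a, φ (g 7 a) l = l := by
    refine fix_of_scale φ (g 7) (g_add 7) (T := tt v0 1) hv0' (fun a => tt7 _ _ a) hl0 (lTi _ _) fun a => ?_
    refine uniq _ ((mem_M φ).2 ⟨fun c => ?_, fun d => ?_⟩) fun t => ?_
    · rw [← act_end, ← (g_comm (r := 7) (s := 10) (by simp) a c).eq, act_end, l10]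
    · rw [← act_end, ← (g_comm (r := 7) (s := 11) (by simp) a d).eq, act_end, l11]
    · have e : φ (g 7 a * g 6 t) l = φ (g 6 t * g 7 a *
          (g 8 (-(t * a)) * g 9 (-(t * a ^ 2)) * g 10 (t * a ^ 3) * g 11 (-2 * t ^ 2 * a ^ 3))) l := by
        rw [mul_right_cancel (c67 t a)]
      simp only [act_end, l6, l8, l9, l10, l11] at e
      exact e.symm
  have swap : φ n7 l ∈ M φ ∧ ∀ t, φ (g 6 t) (φ n7 l) = φ n7 l :=
    ⟨(mem_M φ).2 ⟨fix_move φ (move7 (F := F) (r := 6) (r' := 10) (by simp)) l6,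
      fix_move φ (move7 (F := F) (r := 11) (r' := 11) (by simp)) l11⟩,
      fix_move φ (move7 (F := F) (r := 10) (r' := 6) (by simp)) l10⟩
  obtain ⟨c7, hc7⟩ := uniq _ swap.1 swap.2
  have sweep : ∀ {n : G2 F} {r r' : ℕ} {c : ℂ}, Mv n r r' → φ n l = c • l → (∀ a, φ (g r a) l = l) →
      ∀ a, φ (g r' a) l = l := fun {n r r' c} hn hc hr a => by
    have h1 := fix_move φ hn hr a
    rw [hc, map_smul] at h1
    exact smul_right_injective V (fun e => act_ne_zero φ n hl0 (by rw [hc, e, zero_smul])) h1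
  have hz6 : φ n6 l ∈ M φ :=
    (mem_M φ).2 ⟨fix_move φ (move6 (F := F) (r := 11) (r' := 10) (by simp)) l11,
      fix_move φ (move6 (F := F) (r := 10) (r' := 11) (by simp)) l10⟩
  have notline : ¬ ∃ c : ℂ, φ n6 l = c • l := by
    rintro ⟨c6, hc6⟩
    have l4 := sweep (move7 (F := F) (r := 7) (r' := 4) (by simp)) hc7 l7
    have l5 := sweep (move6 (F := F) (r := 6) (r' := 5) (by simp)) hc6 l6
    have l3 := sweep (move6 (F := F) (r := 4) (r' := 3) (by simp)) hc6 l4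
    have l2 := sweep (mv7 (F := F) (r := 3) (r' := 2) (by norm_num) (by decide +kernel)) hc7 l3
    have l1 := sweep (move7 (F := F) (r := 5) (r' := 1) (by simp)) hc7 l5
    have l0 := sweep (move6 (F := F) (r := 1) (r' := 0) (by simp)) hc6 l1
    refine hl0 (X.nofix l (gen_induction (P := fun a => φ a l = l) (by rw [map_one]; rfl)
      (fun a b ha hb => by rw [act_end, hb, ha]) (fun a ha => by
        have := congrArg (φ a⁻¹) ha
        rw [← act_end, inv_mul_cancel, map_one] at this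
        exact this.symm) fun r hr => ?_))
    interval_cases r <;> assumption
  let Y : Submodule ℂ V := cyc φ (S F) {l}
  have hY := cyc_stable φ (S F) ({l} : Set V)
  have hlY : l ∈ Y := mem_cyc φ (S F) _ rfl
  obtain ⟨s0, hs0⟩ : ∃ s0 : Fˣ, proj (res φ (M φ)) (e6 φ) (ch (s0 : F)) ⟨_, hz6⟩ ≠ 0 := by
    by_contra hh
    push Not at hh
    have h := LinearMap.congr_fun (Cfsg.Lib.TwDeg.sum_proj (φ := res φ (M φ)) (e := e6 φ) (e6_add φ)) ⟨_, hz6⟩
    rw [LinearMap.sum_apply, Finset.sum_eq_single (ch (0 : F)) (fun ψ _ hψ => by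
      obtain ⟨w, rfl⟩ := (chE (F := F)).surjective ψ
      exact hh (Units.mk0 w fun e => hψ (by rw [e]; rfl))) (by simp), Module.End.one_apply] at h
    refine notline (uniq _ hz6 fun t => ?_)
    have h2 := congrArg (fun y : ↥(M φ) => (y : V)) ((mem_iff (φ := res φ (M φ)) (e := e6 φ) (e6_add φ) _ _).1 ⟨_, h⟩ t)
    simpa [e6, ch_apply] using h2
  have huY : u s0 ∈ Y := by
    set w := proj (res φ (M φ)) (e6 φ) (ch (s0 : F)) ⟨_, hz6⟩ with hw
    have hwY : (w : V) ∈ Y := by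
      rw [hw, res_proj, proj, LinearMap.smul_apply, LinearMap.sum_apply]
      exact Y.smul_mem _ (Y.sum_mem fun t _ => Y.smul_mem _ (hY _ (g_mem_S (by simp) t) _ (hY _ n6_mem_S _ hlY)))
    obtain ⟨c, hc⟩ := hline s0 w w.2 fun t => by
      have h2 := congrArg (fun y : ↥(M φ) => (y : V))
        ((mem_iff (φ := res φ (M φ)) (e := e6 φ) (e6_add φ) _ w).1 ⟨_, rfl⟩ t)
      simpa [e6] using h2
    have hc0 : c ≠ 0 := fun e => hs0 (Subtype.ext (by rw [hc, e, zero_smul]; rfl))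
    have := Y.smul_mem c⁻¹ hwY
    rwa [hc, smul_smul, inv_mul_cancel₀ hc0, one_smul] at this
  have huall : ∀ s, u s ∈ Y := by
    intro s
    set a := φ (tt 1 (s0 * s⁻¹)) (u s0)
    have haY : a ∈ Y := hY _ (tt_mem_S _ _) _ huY
    obtain ⟨c, hc⟩ := hline s a ((mem_M φ).2 ⟨fix_move φ (mv_tt (by norm_num) _ _) ((mem_M φ).1 (hM s0)).1,
      fix_move φ (mv_tt (by norm_num) _ _) ((mem_M φ).1 (hM s0)).2⟩) fun t => by
      have e := tt6 1 (s0 * s⁻¹) ((s : F) * (s0 : F)⁻¹ * t)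
      rw [show ((s0 * s⁻¹ : Fˣ) : F) * ((s : F) * (s0 : F)⁻¹ * t) = t by simp; field_simp] at e
      rw [← e, ← act_end, inv_mul_cancel_right, act_end, h6, map_smul, ch_apply, ch_apply]
      congr 2
      field_simp
    have hc0 : c ≠ 0 := fun e => act_ne_zero φ _ (h0 s0) (show a = 0 by rw [hc, e, zero_smul])
    have := Y.smul_mem c⁻¹ haY
    rwa [hc, smul_smul, inv_mul_cancel₀ hc0, one_smul] at this
  let f : F → V := fun w => if h : w = 0 then l else u (Units.mk0 w h)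
  have hfli : LinearIndependent ℂ f := eigen_indep (φ := φ) (e := g (F := F) 6) (g_add 6) (fun w : F => ch w)
    ch_inj f (fun w => by by_cases h : w = 0 <;> simp [f, h, hl0, h0]) fun w t => by
      by_cases h : w = 0
      · simp [f, h, l6, ch_apply]
      · simp [f, h, h6]
  have hspan : Submodule.span ℂ (Set.range f) = M φ := by
    refine Submodule.eq_of_le_of_finrank_eq (Submodule.span_le.2 ?_) ?_
    · rintro _ ⟨w, rfl⟩
      by_cases h : w = 0 <;> simp [f, h, hM, l]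
    · rw [finrank_span_eq_card hfli, finrank_M, hW, hL1]; omega
  have hMY : M φ ≤ Y := by
    rw [← hspan, Submodule.span_le]
    rintro _ ⟨w, rfl⟩
    by_cases h : w = 0 <;> simp [f, h, huall, hlY]
  obtain ⟨d0, μ, hD, hd0, hμ, hZ, hzero⟩ := stable_split X hY
  have hd0' : d0 = W φ := le_antisymm hd0 (by rw [← finrank_M]; exact hZ _ le_rfl hMY)
  rcases Nat.eq_zero_or_pos μ with hμ0 | hμ0
  · obtain ⟨N, a, b, eN, hN, -⟩ := exists_N (F := F) one_ne_zero
    have hNS : N ∈ S F := by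
      rw [show N = (g 10 a)⁻¹ * g 1 1 * (g 10 b)⁻¹ by rw [eN]; group]
      exact mul_mem (mul_mem (inv_mem (g_mem_S (by simp) _)) (g_mem_S (by simp) _)) (inv_mem (g_mem_S (by simp) _))
    obtain ⟨c, hc, ec⟩ := hN
    have h1 : ∀ t, φ (g 6 t) (u 1) = u 1 := fun t => by
      rw [show g 6 t = N * g 11 (c⁻¹ * t) * N⁻¹ by rw [ec, ← mul_assoc, mul_inv_cancel₀ hc, one_mul],
        act_end, act_end, hzero hμ0 _ _ (hY _ (inv_mem hNS) _ (huall 1)), act_cancel]
    refine one_ne_zero (α := F) (psi_nd fun t => ?_)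
    by_contra hne
    have h2 := h6 1 t
    rw [h1, Units.val_one, ch_apply] at h2
    exact hne (smul_left_injective ℂ (h0 1) ((one_smul ℂ (u 1)).trans h2)).symm
  rcases eq_or_lt_of_le hμ with hμq | hμq
  · have hYtop := top_of_full X hD hd0' hμq
    obtain ⟨c, hc⟩ := lT X.z 1
    refine top_false X (c := c) fun v => scalar_cyc φ (S F) _ _ c (commute_S X.hz) ?_ v
      (Submodule.eq_top_iff'.1 hYtop v)
    rintro _ rfl
    exact hc
  · obtain ⟨ρ, hρ⟩ := irreducible_of_unique_fixed φ (S F)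
      (Subgroup.closure {x | ∃ r ∈ [6, 10, 11], ∃ t, x = g r t})
      ((Subgroup.closure_le _).2 (by
        rintro _ ⟨r, hr, t, rfl⟩
        exact g_mem_S (by simp at hr ⊢; omega) t)) hl0 (fun x hx => by
        refine Subgroup.closure_induction (p := fun x _ => φ x l = l) ?_ (by rw [map_one]; rfl)
          (fun a b _ _ ha hb => by rw [act_end, hb, ha]) (fun a _ ha => by
            have := congrArg (φ a⁻¹) ha
            rw [← act_end, inv_mul_cancel, map_one] at this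
            exact this.symm) hx
        rintro _ ⟨r, hr, t, rfl⟩
        simp only [List.mem_cons, List.not_mem_nil, or_false] at hr
        rcases hr with rfl | rfl | rfl
        · exact l6 t
        · exact l10 t
        · exact l11 t) hY hlY
      (fun Z hZs hlZ => cyc_le φ (S F) _ Z hZs (by simpa using hlZ))
      fun v _ hfix => uniq v
        ((mem_M φ).2 ⟨fun c => hfix _ (Subgroup.subset_closure ⟨10, by simp, c, rfl⟩),
          fun d => hfix _ (Subgroup.subset_closure ⟨11, by simp, d, rfl⟩)⟩)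
        fun t => hfix _ (Subgroup.subset_closure ⟨6, by simp, t, rfl⟩)
    haveI := hρ
    have hdvd := (Cfsg.Lib.Chars.finrank_dvd_card ρ).trans (Subgroup.card_subgroup_dvd_card (S F))
    rw [Cfsg.Lib.GTwoOdd.card_chevG2, hD, hd0', hW, hL1,
      show 1 + (Fintype.card F - 1) = Fintype.card F by omega] at hdvd
    exact num_one (FiniteField.isPrimePow_card F) X.q4 hμ0 hμq hdvd

theorem impossible (X : Data φ) : False :=
  if h : L φ = 0 then case_zero X h else case_one X h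

/-- The bound `q³ + 1`. -/
theorem bound_one (φ : G2 F →* Module.End ℂ V) (hq : 4 < Fintype.card F) (hq1 : Fintype.card F % 3 = 1)
    (hφ : Function.Injective φ) (hnofix : ∀ v : V, (∀ a, φ a v = v) → v = 0) :
    Fintype.card F ^ 3 + 1 ≤ Module.finrank ℂ V := by
  classical
  have h3 : (3 : F) ≠ 0 := by
    intro h
    obtain ⟨p, hp⟩ := CharP.exists F
    obtain ⟨n, hpr, hcard⟩ := FiniteField.card F p
    have hp3 : p ∣ 3 := (CharP.cast_eq_zero_iff F p 3).1 (by exact_mod_cast h)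
    rcases (Nat.dvd_prime Nat.prime_three).1 hp3 with e | e
    · exact hpr.one_lt.ne' e
    · rw [hcard, e, Nat.pow_mod] at hq1
      simp at hq1
  have hm := m_ne_zero φ h3 hφ
  have hsplit := split φ h3
  rcases (show m φ = 1 ∨ 2 ≤ m φ by omega) with h1 | h2
  · by_contra hlt
    have h2 : 3 ∣ Fintype.card Fˣ := by rw [Fintype.card_units]; omega
    haveI : Fact (Nat.Prime 3) := ⟨Nat.prime_three⟩
    obtain ⟨z, hz⟩ := exists_prime_orderOf_dvd_card 3 h2
    have e : (Fintype.card F ^ 2 - 1) * Fintype.card F + Fintype.card F = Fintype.card F ^ 3 := by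
      rw [← Nat.succ_mul, Nat.succ_eq_add_one, Nat.sub_add_cancel (Nat.one_le_pow _ _ (by omega))]; ring
    exact impossible
      { h3 := h3, h1 := h1, q4 := hq, inj := hφ, nofix := hnofix
        small := by rw [h1, mul_one] at hsplit; omega
        z := z
        hz := by rw [← Units.val_pow_eq_pow_val, ← hz, pow_orderOf_eq_one, Units.val_one]
        hz1 := fun e' => by rw [e', orderOf_one] at hz; omega }
  · have hA := Nat.mul_le_mul_left (Fintype.card F ^ 2 - 1) (Nat.mul_le_mul_left (Fintype.card F) h2)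
    have hq2 : 5 * Fintype.card F ≤ Fintype.card F ^ 2 := by nlinarith
    have hB : (Fintype.card F ^ 2 - 1) * (Fintype.card F * 2) + Fintype.card F * 2 = Fintype.card F ^ 3 * 2 := by
      rw [← Nat.succ_mul, Nat.succ_eq_add_one, Nat.sub_add_cancel (Nat.one_le_pow _ _ (by omega))]; ring
    have hC : Fintype.card F * (5 * Fintype.card F) ≤ Fintype.card F * Fintype.card F ^ 2 := Nat.mul_le_mul_left _ hq2
    have hD : Fintype.card F * Fintype.card F ^ 2 = Fintype.card F ^ 3 := by ring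
    have hE : Fintype.card F * (5 * Fintype.card F) = 5 * Fintype.card F ^ 2 := by ring
    omega

end Cfsg.Lib.GTwoDeg
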