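import Cfsg.Agent.Chev.GTwoDeg.Eigen
import Cfsg.Agent.Chev.GTwoDeg.Elems

/-! The multiplicities of the characters of an abelian subgroup of order `q³` of `G₂`, away from characteristic three. -/

set_option autoImplicit false
set_option maxHeartbeats 400000
set_option linter.unusedSectionVars false

open Cfsg.Lie
open Cfsg.Lib.TwDeg (proj dd act_end act_ne_zero act_cancel e_mul_proj mem_iff exists_mem line eigen_indep total)

namespace Cfsg.Lib.GTwoDeg

section setting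

variable {G : Type*} [Group G] {V : Type*} [AddCommGroup V] [Module ℂ V] [FiniteDimensional ℂ V]
  (φ : G →* Module.End ℂ V) {F : Type*} [Field F] [Fintype F]

/-- The characters of a pair. -/
noncomputable def chi2 : (F × F) ≃ AddChar (F × F) ℂ := cpE chE chE

theorem chi2_apply (w p : F × F) : chi2 w p = psi (w.1 * p.1 + w.2 * p.2) := by
  rw [AddChar.map_add_eq_mul]; rfl

theorem chi2_zero : chi2 (F := F) (0, 0) = 0 := DFunLike.ext _ _ fun p => by simp [chi2_apply]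

theorem const2 (e : F × F → G) (he : ∀ a b, e a * e b = e (a + b)) (a : F → G)
    (ha : ∀ r p, a r * e p * (a r)⁻¹ = e (p.1, p.2 + r * p.1)) (n : G) (k k' : F) (hk : k ≠ 0) (hk' : k' ≠ 0)
    (hn : ∀ p, n * e p * n⁻¹ = e (k * p.2, k' * p.1)) (T : Fˣ → G)
    (hT : ∀ v p, T v * e p * (T v)⁻¹ = e ((v : F) * p.1, (v : F) ^ 2 * p.2)) :
    ∀ w : F × F, w ≠ 0 → dd φ e (chi2 w) = dd φ e (chi2 (1, 0)) := by
  have hS : ∀ v : Fˣ, ∀ w : F × F, dd φ e (chi2 ((v : F) * w.1, (v : F) ^ 2 * w.2)) = dd φ e (chi2 w) := by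
    intro v w
    refine Cfsg.Lib.TwDeg.dd_conj (φ := φ) he (T v)
      { toFun := fun p => ((v : F) * p.1, (v : F) ^ 2 * p.2)
        invFun := fun p => ((v : F)⁻¹ * p.1, ((v : F)⁻¹) ^ 2 * p.2)
        left_inv := fun p => by ext <;> simp [← mul_assoc, ← mul_pow]
        right_inv := fun p => by ext <;> simp [← mul_assoc, ← mul_pow]
        map_add' := fun p r => by ext <;> simp [mul_add] } (hT v) fun p => ?_
    rw [chi2_apply, chi2_apply]
    congr 1
    show w.1 * ((v : F) * p.1) + w.2 * ((v : F) ^ 2 * p.2) = _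
    ring
  have hA : ∀ r : F, ∀ w : F × F, dd φ e (chi2 (w.1 + r * w.2, w.2)) = dd φ e (chi2 w) := by
    intro r w
    refine Cfsg.Lib.TwDeg.dd_conj (φ := φ) he (a r)
      { toFun := fun p => (p.1, p.2 + r * p.1)
        invFun := fun p => (p.1, p.2 - r * p.1)
        left_inv := fun p => by ext <;> simp
        right_inv := fun p => by ext <;> simp
        map_add' := fun p r' => by ext <;> simp; ring } (ha r) fun p => ?_
    rw [chi2_apply, chi2_apply]
    congr 1
    show w.1 * p.1 + w.2 * (p.2 + r * p.1) = _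
    ring
  have hN : ∀ w : F × F, dd φ e (chi2 (w.2 * k', w.1 * k)) = dd φ e (chi2 w) := by
    intro w
    refine Cfsg.Lib.TwDeg.dd_conj (φ := φ) he n
      { toFun := fun p => (k * p.2, k' * p.1)
        invFun := fun p => (k'⁻¹ * p.2, k⁻¹ * p.1)
        left_inv := fun p => by ext <;> simp [hk, hk']
        right_inv := fun p => by ext <;> simp [hk, hk']
        map_add' := fun p r' => by ext <;> simp [mul_add] } hn fun p => ?_
    rw [chi2_apply, chi2_apply]
    congr 1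
    show w.1 * (k * p.2) + w.2 * (k' * p.1) = _
    ring
  have h1 : ∀ c : F, c ≠ 0 → dd φ e (chi2 (c, 0)) = dd φ e (chi2 (1, 0)) := fun c hc => by
    simpa using hS (Units.mk0 c hc) (1, 0)
  intro w hw
  rcases eq_or_ne w.2 0 with h | h
  · rw [show w = (w.1, 0) from Prod.ext rfl h]
    exact h1 _ fun e' => hw (Prod.ext e' h)
  · rw [← hA (-(w.1 / w.2)) w, neg_mul, div_mul_cancel₀ _ h, add_neg_cancel, ← hN (0, w.2)]
    simp only [zero_mul]
    exact h1 _ (mul_ne_zero h hk')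

/-- The number of pairs other than zero. -/
theorem card_erase_zero [DecidableEq F] :
    ((Finset.univ : Finset (F × F)).erase 0).card = Fintype.card F ^ 2 - 1 := by
  rw [Finset.card_erase_of_mem (Finset.mem_univ _), Finset.card_univ, Fintype.card_prod, sq]

theorem split2 (e : F × F → G) (he : ∀ a b, e a * e b = e (a + b)) {D : ℕ}
    (h : ∀ w : F × F, w ≠ 0 → dd φ e (chi2 w) = D) :
    Module.finrank ℂ V = dd φ e (chi2 0) + (Fintype.card F ^ 2 - 1) * D := by
  classical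
  rw [total (φ := φ) he chi2, ← Finset.add_sum_erase Finset.univ _ (Finset.mem_univ (0 : F × F)),
    Finset.sum_congr rfl fun w hw => h w (Finset.mem_erase.1 hw).1, Finset.sum_const, card_erase_zero, smul_eq_mul]

/-- A root subgroup fixes an eigenvector of a torus element that moves it. -/
theorem fix_of_scale (h : F → G) (hh : ∀ a b, h a * h b = h (a + b)) {T : G}
    {l : F} (hl : l ≠ 1) (hT : ∀ a, T * h a * T⁻¹ = h (l * a)) {v : V} (hv0 : v ≠ 0)
    (hTv : ∃ c : ℂ, φ T⁻¹ v = c • v) (hhv : ∀ a, ∃ c : ℂ, φ (h a) v = c • v) (a : F) : φ (h a) v = v := by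
  obtain ⟨b, hb⟩ : ∃ b, a = (l - 1) * b := ⟨a / (l - 1), (mul_div_cancel₀ _ (sub_ne_zero.2 hl)).symm⟩
  obtain ⟨c, hc⟩ := hhv b
  obtain ⟨c', hc'⟩ := hTv
  have h1 : φ (h (l * b)) v = c • v := by
    rw [← hT, act_end, act_end, hc', map_smul, hc, smul_comm, map_smul, ← hc', act_cancel]
  rw [show l * b = a + b by rw [hb]; ring, ← hh, act_end, hc, map_smul] at h1
  have hc0 : c ≠ 0 := fun e => act_ne_zero φ (h b) hv0 (by rw [hc, e, zero_smul])
  exact smul_right_injective V hc0 h1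

end setting

variable {F : Type*} [Field F] [Fintype F] {V : Type*} [AddCommGroup V] [Module ℂ V] [FiniteDimensional ℂ V]
  (φ : G2 F →* Module.End ℂ V)

/-- The vectors fixed by a root subgroup go to vectors fixed by its image. -/
theorem fix_move {n : G2 F} {r r' : ℕ} (h : Mv n r r') {v : V} (hv : ∀ a, φ (g r a) v = v) :
    ∀ a, φ (g r' a) (φ n v) = φ n v := by
  obtain ⟨c, hc, e⟩ := h
  intro a
  have h1 := e (c⁻¹ * a)
  rw [← mul_assoc, mul_inv_cancel₀ hc, one_mul] at h1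
  rw [← h1, ← act_end, inv_mul_cancel_right, act_end, hv]

/-- The abelian group of the two highest long roots. -/
noncomputable def e2 (p : F × F) : G2 F := g 10 p.1 * g 11 p.2

/-- The abelian group of order `q³`. -/
noncomputable def e3 (p : F × F × F) : G2 F := g 9 p.1 * e2 p.2

theorem e2_add (p r : F × F) : e2 p * e2 r = e2 (p + r) := by
  show g 10 p.1 * g 11 p.2 * (g 10 r.1 * g 11 r.2) = g 10 (p.1 + r.1) * g 11 (p.2 + r.2)
  rw [← g_add, ← g_add, ← mul_assoc, mul_assoc _ (g 11 p.2),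
    ← (g_comm (r := 10) (s := 11) (by simp) r.1 p.2).eq]
  simp only [mul_assoc]

theorem g9_e2 (a : F) (p : F × F) : Commute (g 9 a) (e2 p) :=
  (g_comm (r := 9) (s := 10) (by simp) a p.1).mul_right (g_comm (r := 9) (s := 11) (by simp) a p.2)

theorem e3_add (p r : F × F × F) : e3 p * e3 r = e3 (p + r) := by
  show g 9 p.1 * e2 p.2 * (g 9 r.1 * e2 r.2) = g 9 (p.1 + r.1) * e2 (p.2 + r.2)
  rw [← g_add, ← e2_add, ← mul_assoc, mul_assoc _ (e2 p.2), ← (g9_e2 r.1 p.2).eq]
  simp only [mul_assoc]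

theorem e2_10 (c : F) : e2 (c, 0) = g 10 c := by simp [e2, g_zero]

theorem e2_11 (d : F) : e2 ((0 : F), d) = g 11 d := by simp [e2, g_zero]

theorem conj_prod {G : Type*} [Group G] (n a b : G) : n * (a * b) * n⁻¹ = n * a * n⁻¹ * (n * b * n⁻¹) := by group

theorem conj_fix {G : Type*} [Group G] {a b : G} (h : Commute a b) : a * b * a⁻¹ = b := by
  rw [h.eq, mul_inv_cancel_right]

theorem g6_e2 (r : F) (p : F × F) : g 6 r * e2 p * (g 6 r)⁻¹ = e2 (p.1, p.2 + r * p.1) := by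
  rw [e2, conj_prod, c610, conj_fix (g_comm (r := 6) (s := 11) (by simp) r p.2), mul_assoc, g_add, add_comm]
  rfl

theorem n6_e2 : ∃ k k' : F, k ≠ 0 ∧ k' ≠ 0 ∧ ∀ p : F × F, n6 * e2 p * (n6 : G2 F)⁻¹ = e2 (k * p.2, k' * p.1) := by
  obtain ⟨k, hk, ek⟩ := move6 (F := F) (r := 11) (r' := 10) (by simp)
  obtain ⟨k', hk', ek'⟩ := move6 (F := F) (r := 10) (r' := 11) (by simp)
  exact ⟨k, k', hk, hk', fun p => by
    rw [e2, conj_prod, ek, ek', ← (g_comm (r := 10) (s := 11) (by simp) (k * p.2) (k' * p.1)).eq]; rfl⟩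

open Cfsg.Lib.GTwoOdd (cA cB)

theorem tt_val {r : ℕ} (hr : r < 12) {a b : ℤ}
    (h : ((List.range 12).map fun r => (cA r, cB r)).getD r (0, 0) = (a, b))
    (u v : Fˣ) (t : F) : tt u v * g r t * (tt u v)⁻¹ = g r ((u : F) ^ a * (v : F) ^ b * t) := by
  obtain ⟨e1, e2⟩ : cA r = a ∧ cB r = b := by simp [hr] at h; exact h
  rw [tt_conj hr, e1, e2, Units.val_mul, Units.val_zpow_eq_zpow_val, Units.val_zpow_eq_zpow_val]

theorem tt6 (u v : Fˣ) (t : F) : tt u v * g 6 t * (tt u v)⁻¹ = g 6 ((v : F) * t) := by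
  rw [tt_val (a := 0) (b := 1) (by norm_num) (by rw [coeff_tab]; rfl)]; simp

theorem tt7 (u v : Fˣ) (t : F) : tt u v * g 7 t * (tt u v)⁻¹ = g 7 ((u : F) * t) := by
  rw [tt_val (a := 1) (b := 0) (by norm_num) (by rw [coeff_tab]; rfl)]; simp

theorem tt8 (u v : Fˣ) (t : F) : tt u v * g 8 t * (tt u v)⁻¹ = g 8 ((u : F) * v * t) := by
  rw [tt_val (a := 1) (b := 1) (by norm_num) (by rw [coeff_tab]; rfl)]; simp

theorem tt9 (u v : Fˣ) (t : F) : tt u v * g 9 t * (tt u v)⁻¹ = g 9 ((u : F) ^ 2 * v * t) := by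
  rw [tt_val (a := 2) (b := 1) (by norm_num) (by rw [coeff_tab]; rfl)]; simp

theorem tt10 (u v : Fˣ) (t : F) : tt u v * g 10 t * (tt u v)⁻¹ = g 10 ((u : F) ^ 3 * v * t) := by
  rw [tt_val (a := 3) (b := 1) (by norm_num) (by rw [coeff_tab]; rfl)]; simp

theorem tt11 (u v : Fˣ) (t : F) : tt u v * g 11 t * (tt u v)⁻¹ = g 11 ((u : F) ^ 3 * (v : F) ^ 2 * t) := by
  rw [tt_val (a := 3) (b := 2) (by norm_num) (by rw [coeff_tab]; rfl)]; norm_cast

theorem tt_e2 (u v : Fˣ) (p : F × F) :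
    tt u v * e2 p * (tt u v)⁻¹ = e2 ((u : F) ^ 3 * v * p.1, (u : F) ^ 3 * (v : F) ^ 2 * p.2) := by
  rw [e2, conj_prod, tt10, tt11]; rfl

theorem tt1_e2 (v : Fˣ) (p : F × F) : tt 1 v * e2 p * (tt 1 v)⁻¹ = e2 ((v : F) * p.1, (v : F) ^ 2 * p.2) := by
  simp [tt_e2]

theorem tt_e3 (u v : Fˣ) (p : F × F × F) : tt u v * e3 p * (tt u v)⁻¹ =
    e3 ((u : F) ^ 2 * v * p.1, (u : F) ^ 3 * v * p.2.1, (u : F) ^ 3 * (v : F) ^ 2 * p.2.2) := by
  rw [e3, conj_prod, tt9, tt_e2]; rfl

theorem g6_e3 (r : F) (p : F × F × F) :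
    g 6 r * e3 p * (g 6 r)⁻¹ = e3 (p.1, p.2.1, p.2.2 + r * p.2.1) := by
  rw [e3, conj_prod, conj_fix (g_comm (r := 6) (s := 9) (by simp) r p.1), g6_e2]; rfl

theorem g7_e3 (t : F) (p : F × F × F) :
    g 7 t * e3 p * (g 7 t)⁻¹ = e3 (p.1, p.2.1 + 3 * t * p.1, p.2.2) := by
  rw [e3, conj_prod, c79, e2, conj_prod, conj_fix (g_comm (r := 7) (s := 10) (by simp) t p.2.1),
    conj_fix (g_comm (r := 7) (s := 11) (by simp) t p.2.2), mul_assoc, ← mul_assoc (g 10 _), g_add,
    add_comm]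
  rfl

theorem g8_e3 (t : F) (p : F × F × F) :
    g 8 t * e3 p * (g 8 t)⁻¹ = e3 (p.1, p.2.1, p.2.2 + 3 * t * p.1) := by
  rw [e3, conj_prod, c89, e2, conj_prod, conj_fix (g_comm (r := 8) (s := 10) (by simp) t p.2.1),
    conj_fix (g_comm (r := 8) (s := 11) (by simp) t p.2.2), ← mul_assoc,
    mul_assoc (g 9 _) (g 11 _), ← (g_comm (r := 10) (s := 11) (by simp) p.2.1 _).eq, mul_assoc, mul_assoc,
    g_add, add_comm]
  rfl

theorem n6_e3 : ∃ k k' k'' : F, k ≠ 0 ∧ k' ≠ 0 ∧ k'' ≠ 0 ∧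
    ∀ p : F × F × F, n6 * e3 p * (n6 : G2 F)⁻¹ = e3 (k'' * p.1, k * p.2.2, k' * p.2.1) := by
  obtain ⟨k, k', hk, hk', e⟩ := n6_e2 (F := F)
  obtain ⟨k'', hk'', e'⟩ := move6 (F := F) (r := 9) (r' := 9) (by simp)
  exact ⟨k, k', k'', hk, hk', hk'', fun p => by rw [e3, conj_prod, e', e]; rfl⟩

/-- The characters of the triples. -/
noncomputable def chi3 : (F × F × F) ≃ AddChar (F × F × F) ℂ := cpE chE chi2

theorem chi3_apply (w p : F × F × F) :
    chi3 w p = psi (w.1 * p.1 + w.2.1 * p.2.1 + w.2.2 * p.2.2) := by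
  rw [add_assoc, AddChar.map_add_eq_mul, ← chi2_apply (w := w.2) (p := p.2)]; rfl

/-- The multiplicity of a character of the triples. -/
noncomputable def d3 (a c d : F) : ℕ := dd φ e3 (chi3 (a, c, d))

/-- The dimension of the space of vectors fixed by the two highest long root subgroups. -/
noncomputable def W : ℕ := dd φ e2 (chi2 (0, 0))

/-- The space of vectors fixed by the two highest long root subgroups. -/
noncomputable def M : Submodule ℂ V := LinearMap.range (proj φ e2 (chi2 ((0 : F), 0)))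

theorem finrank_M : Module.finrank ℂ ↥(M φ) = W φ := rfl

theorem mem_M {v : V} : v ∈ M φ ↔ (∀ c, φ (g 10 c) v = v) ∧ ∀ d, φ (g 11 d) v = v := by
  rw [M, mem_iff (φ := φ) (e := e2 (F := F)) e2_add]
  constructor
  · exact fun h => ⟨fun c => by rw [← e2_10, h]; simp [chi2_zero],
      fun d => by rw [← e2_11, h]; simp [chi2_zero]⟩
  · intro h p
    rw [e2, act_end, h.2, h.1]
    simp [chi2_zero]

theorem shift3 (h3 : (3 : F) ≠ 0) (a c d : F) (h : c ≠ 0 ∨ d ≠ 0) : d3 φ a c d = d3 φ 0 c d := by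
  rcases h with h | h
  · refine Cfsg.Lib.TwDeg.dd_conj (φ := φ) e3_add (g 7 (a / (3 * c)))
      { toFun := fun p => (p.1, p.2.1 + 3 * (a / (3 * c)) * p.1, p.2.2)
        invFun := fun p => (p.1, p.2.1 - 3 * (a / (3 * c)) * p.1, p.2.2)
        left_inv := fun p => by simp
        right_inv := fun p => by simp
        map_add' := fun p r => by ext <;> simp; ring } (g7_e3 _) fun p => ?_
    rw [chi3_apply, chi3_apply]
    congr 1
    show 0 * p.1 + c * (p.2.1 + 3 * (a / (3 * c)) * p.1) + d * p.2.2 = a * p.1 + c * p.2.1 + d * p.2.2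
    field_simp
    ring
  · refine Cfsg.Lib.TwDeg.dd_conj (φ := φ) e3_add (g 8 (a / (3 * d)))
      { toFun := fun p => (p.1, p.2.1, p.2.2 + 3 * (a / (3 * d)) * p.1)
        invFun := fun p => (p.1, p.2.1, p.2.2 - 3 * (a / (3 * d)) * p.1)
        left_inv := fun p => by simp
        right_inv := fun p => by simp
        map_add' := fun p r => by ext <;> simp; ring } (g8_e3 _) fun p => ?_
    rw [chi3_apply, chi3_apply]
    congr 1
    show 0 * p.1 + c * p.2.1 + d * (p.2.2 + 3 * (a / (3 * d)) * p.1) = a * p.1 + c * p.2.1 + d * p.2.2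
    field_simp
    ring

/-- The common multiplicity. -/
noncomputable def m : ℕ := d3 φ (0 : F) 1 0

theorem d3_const (h3 : (3 : F) ≠ 0) (a c d : F) (h : c ≠ 0 ∨ d ≠ 0) : d3 φ a c d = m φ := by
  rw [shift3 φ h3 a c d h]
  have hS : ∀ c : F, c ≠ 0 → d3 φ 0 c 0 = m φ := fun c hc => by
    refine Cfsg.Lib.TwDeg.dd_conj (φ := φ) e3_add (tt 1 (Units.mk0 c hc))
      { toFun := fun p => (c * p.1, c * p.2.1, c ^ 2 * p.2.2)
        invFun := fun p => (c⁻¹ * p.1, c⁻¹ * p.2.1, (c ^ 2)⁻¹ * p.2.2)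
        left_inv := fun p => by simp [hc]
        right_inv := fun p => by simp [hc]
        map_add' := fun p r => by ext <;> simp [mul_add] } (fun p => by rw [tt_e3]; simp) fun p => ?_
    rw [chi3_apply, chi3_apply]
    congr 1
    show 0 * (c * p.1) + 1 * (c * p.2.1) + 0 * (c ^ 2 * p.2.2) = _
    ring
  rcases eq_or_ne d 0 with rfl | hd
  · exact hS c (h.resolve_right fun h' => h' rfl)
  obtain ⟨k, k', k'', hk, hk', hk'', ek⟩ := n6_e3 (F := F)
  have h1 : d3 φ 0 c d = d3 φ 0 0 d := by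
    refine Cfsg.Lib.TwDeg.dd_conj (φ := φ) e3_add (g 6 (c / d))
      { toFun := fun p => (p.1, p.2.1, p.2.2 + c / d * p.2.1)
        invFun := fun p => (p.1, p.2.1, p.2.2 - c / d * p.2.1)
        left_inv := fun p => by simp
        right_inv := fun p => by simp
        map_add' := fun p r => by ext <;> simp; ring } (g6_e3 _) fun p => ?_
    rw [chi3_apply, chi3_apply]
    congr 1
    show 0 * p.1 + 0 * p.2.1 + d * (p.2.2 + c / d * p.2.1) = _
    field_simp
    ring
  rw [h1, ← hS (d / k) (div_ne_zero hd hk)]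
  refine Cfsg.Lib.TwDeg.dd_conj (φ := φ) e3_add n6
    { toFun := fun p => (k'' * p.1, k * p.2.2, k' * p.2.1)
      invFun := fun p => (k''⁻¹ * p.1, k'⁻¹ * p.2.2, k⁻¹ * p.2.1)
      left_inv := fun p => by simp [hk, hk', hk'']
      right_inv := fun p => by simp [hk, hk', hk'']
      map_add' := fun p r => by ext <;> simp [mul_add] } ek fun p => ?_
  rw [chi3_apply, chi3_apply]
  congr 1
  show 0 * (k'' * p.1) + d / k * (k * p.2.2) + 0 * (k' * p.2.1) = _
  field_simp
  ring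

theorem e2_eq : (fun b : F × F => e3 (AddMonoidHom.inr F (F × F) b)) = e2 :=
  funext fun b => by simp [e3, g_zero]

theorem dd2_eq (h3 : (3 : F) ≠ 0) (w : F × F) (hw : w ≠ 0) : dd φ e2 (chi2 w) = Fintype.card F * m φ := by
  classical
  rw [← e2_eq, marginal φ e3 e3_add (AddMonoidHom.inr F (F × F)) chi3 (chi2 w)]
  have key : ∀ i : F × F × F, (chi3 i).compAddMonoidHom (AddMonoidHom.inr F (F × F)) = chi2 w ↔ i.2 = w := by
    intro i
    rw [show (chi3 i).compAddMonoidHom (AddMonoidHom.inr F (F × F)) = chi2 i.2 from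
      DFunLike.ext _ _ fun p => by simp [chi3_apply, chi2_apply], (chi2 (F := F)).injective.eq_iff]
  simp only [key]
  rw [Fintype.sum_prod_type, Finset.sum_congr rfl fun a _ => by rw [Finset.sum_ite_eq', if_pos (Finset.mem_univ _)],
    Finset.sum_congr rfl fun a _ => show dd φ e3 (chi3 (a, w)) = m φ from d3_const φ h3 a w.1 w.2 (by
      by_contra hh
      push Not at hh
      exact hw (Prod.ext hh.1 hh.2)), Finset.sum_const, Finset.card_univ, smul_eq_mul]

theorem split (h3 : (3 : F) ≠ 0) :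
    Module.finrank ℂ V = W φ + (Fintype.card F ^ 2 - 1) * (Fintype.card F * m φ) :=
  split2 φ e2 e2_add (dd2_eq φ h3)

theorem m_ne_zero (h3 : (3 : F) ≠ 0) (hφ : Function.Injective φ) : m φ ≠ 0 := by
  classical
  intro h0
  have h1 : φ (e2 ((0 : F), 1)) = 1 := by
    have h := congrArg (φ (e2 ((0 : F), 1)) * ·) (Cfsg.Lib.TwDeg.sum_proj (φ := φ) (e := e2 (F := F)) e2_add)
    simp only [Finset.mul_sum, e_mul_proj (φ := φ) (e := e2 (F := F)) e2_add, mul_one] at h
    rw [← h, ← Cfsg.Lib.TwDeg.sum_proj (φ := φ) (e := e2 (F := F)) e2_add]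
    refine Finset.sum_congr rfl fun ψ _ => ?_
    obtain ⟨w, rfl⟩ := (chi2 (F := F)).surjective ψ
    rcases eq_or_ne w 0 with rfl | hw
    · rw [show chi2 (0 : F × F) = 0 from chi2_zero]; simp
    · have : proj φ e2 (chi2 w) = 0 := by
        rw [← LinearMap.range_eq_bot, ← Submodule.finrank_eq_zero (R := ℂ)]
        exact (dd2_eq φ h3 w hw).trans (by rw [h0, mul_zero])
      rw [this]; simp
  rw [e2_11] at h1
  exact one_ne_zero (g_inj (by norm_num) (hφ (h1.trans (map_one φ).symm) |>.trans (g_zero 11).symm))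

/-- When the common multiplicity is one, the fixed space meets every nontrivial character of the root
subgroup of the long fundamental root. -/
theorem exists_u (h3 : (3 : F) ≠ 0) (hu : ∃ u : Fˣ, (u : F) ^ 3 ≠ 1) (h1 : m φ = 1) :
    ∃ u : Fˣ → V, (∀ s, u s ≠ 0) ∧ (∀ s, u s ∈ M φ) ∧
      (∀ s t, φ (g 6 t) (u s) = ch (s : F) t • u s) ∧
      ∀ z : Fˣ, (z : F) ^ 3 = 1 → ∃ c : ℂ, ∀ s, φ (tt z 1) (u s) = c • u s := by
  classical
  have hd : dd φ e3 (chi3 ((0 : F), 1, 0)) = 1 := h1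
  obtain ⟨v, hv0, hv⟩ := exists_mem (φ := φ) (e := e3 (F := F)) e3_add (ψ := chi3 ((0 : F), 1, 0)) (by omega)
  have hline : ∀ w, (∀ p, φ (e3 p) w = chi3 ((0 : F), 1, 0) p • w) → ∃ c : ℂ, w = c • v := fun w hw =>
    line (φ := φ) (e := e3 (F := F)) e3_add hd hv0 hv hw
  have keep : ∀ (a : G2 F) (σ : F × F × F → F × F × F), (∀ p, a⁻¹ * e3 p * a = e3 (σ p)) →
      (∀ p, (σ p).2.1 = p.2.1) → ∃ c : ℂ, φ a v = c • v := by
    intro a σ ha hσ
    refine hline _ fun p => ?_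
    rw [← act_end, show e3 p * a = a * (a⁻¹ * e3 p * a) by group, act_end, ha, hv, map_smul, chi3_apply,
      chi3_apply, hσ]
    simp
  have h9 : ∀ a, φ (g 9 a) v = v := fun a => by
    rw [show g 9 a = e3 (a, (0 : F), 0) by simp [e3, e2, g_zero], hv]; simp [chi3_apply]
  have h11 : ∀ a, φ (g 11 a) v = v := fun a => by
    rw [show g 11 a = e3 ((0 : F), 0, a) by simp [e3, e2, g_zero], hv]; simp [chi3_apply]
  have h10 : ∀ a, φ (g 10 a) v = psi a • v := fun a => by
    rw [show g 10 a = e3 ((0 : F), a, 0) by simp [e3, e2, g_zero], hv]; simp [chi3_apply]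
  have h6 : ∀ r, φ (g 6 r) v = v := by
    obtain ⟨u0, hu0⟩ := hu
    refine fix_of_scale φ (g 6) (g_add 6) (T := tt u0 (u0⁻¹ ^ 3)) (l := ((u0⁻¹ ^ 3 : Fˣ) : F)) ?_ (tt6 _ _) hv0 ?_ ?_
    · intro e
      apply hu0
      have h2 : (u0⁻¹ ^ 3 : Fˣ) = 1 := Units.ext e
      rw [inv_pow, inv_eq_one] at h2
      rw [← Units.val_pow_eq_pow_val, h2, Units.val_one]
    · refine keep _ _ (fun p => by rw [inv_inv]; exact tt_e3 _ _ p) fun p => ?_
      show (u0 : F) ^ 3 * ((u0⁻¹ ^ 3 : Fˣ) : F) * p.2.1 = p.2.1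
      rw [← Units.val_pow_eq_pow_val, ← Units.val_mul, ← mul_pow, mul_inv_cancel, one_pow, Units.val_one, one_mul]
    · exact fun a => keep _ (fun p => (p.1, p.2.1, p.2.2 + -a * p.2.1)) (fun p => by rw [← g6_e3 (-a) p, ← g_inv, inv_inv]) fun p => rfl
  obtain ⟨k, hk, ek⟩ := move7 (F := F) (r := 10) (r' := 6) (by simp)
  set v' := φ n7 v
  have v10 := fix_move φ (move7 (F := F) (r := 6) (r' := 10) (by simp)) h6
  have v11 := fix_move φ (move7 (F := F) (r := 11) (r' := 11) (by simp)) h11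
  have v6 : ∀ t, φ (g 6 (k * t)) v' = psi t • v' := fun t => by
    rw [← ek, ← act_end, inv_mul_cancel_right, act_end, h10, map_smul]
  refine ⟨fun s => φ (tt 1 (Units.mk0 k hk * s))⁻¹ v', fun s => act_ne_zero φ _ (act_ne_zero φ _ hv0),
    fun s => (mem_M φ).2 ⟨fix_move φ (mv_tt (by norm_num) _ _).inv v10,
      fix_move φ (mv_tt (by norm_num) _ _).inv v11⟩, fun s t => ?_, fun z hz => ?_⟩
  · have := tt6 1 (Units.mk0 k hk * s) t
    rw [← act_end, show g 6 t * (tt 1 (Units.mk0 k hk * s))⁻¹ = (tt 1 (Units.mk0 k hk * s))⁻¹ *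
      (tt 1 (Units.mk0 k hk * s) * g 6 t * (tt 1 (Units.mk0 k hk * s))⁻¹) by group, act_end, this,
      Units.val_mul, Units.val_mk0, mul_assoc, v6, map_smul, ch_apply]
  · obtain ⟨c9, hc9, e9⟩ := move7 (F := F) (r := 9) (r' := 8) (by simp)
    obtain ⟨c11, hc11, e11⟩ := move7 (F := F) (r := 11) (r' := 11) (by simp)
    set h := (n7 : G2 F)⁻¹ * tt z 1 * n7 with hh
    have back : ∀ (a : G2 F) {b : G2 F}, n7 * a * n7⁻¹ = b → a = n7⁻¹ * b * n7 := fun a b e => by
      rw [← e]; group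
    obtain ⟨c, hc⟩ : ∃ c : ℂ, φ h⁻¹ v = c • v := by
      refine keep h⁻¹ (fun p => ((z : F) * p.1, p.2.1, p.2.2)) (fun p => ?_) fun p => rfl
      rw [inv_inv, e3, e2, conj_prod, conj_prod]
      have m9 : h * g 9 p.1 * h⁻¹ = g 9 ((z : F) * p.1) := by
        rw [back _ (e9 ((z : F) * p.1)), back _ (e9 p.1), hh]
        calc _ = n7⁻¹ * (tt z 1 * g 8 (c9 * p.1) * (tt z 1)⁻¹) * n7 := by group
          _ = _ := by rw [tt8]; simp; ring_nf
      have m10 : h * g 10 p.2.1 * h⁻¹ = g 10 p.2.1 := by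
        rw [back _ (ek p.2.1), hh]
        calc _ = n7⁻¹ * (tt z 1 * g 6 (k * p.2.1) * (tt z 1)⁻¹) * n7 := by group
          _ = _ := by rw [tt6]; simp
      have m11 : h * g 11 p.2.2 * h⁻¹ = g 11 p.2.2 := by
        rw [back _ (e11 p.2.2), hh]
        calc _ = n7⁻¹ * (tt z 1 * g 11 (c11 * p.2.2) * (tt z 1)⁻¹) * n7 := by group
          _ = _ := by rw [tt11, hz]; simp
      rw [m9, m10, m11]
      rfl
    have hc0 : c ≠ 0 := fun e => act_ne_zero φ h⁻¹ hv0 (by rw [hc, e, zero_smul])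
    have hhv : φ h v = c⁻¹ • v := by
      have := congrArg (φ h) hc
      rw [act_cancel, map_smul] at this
      have e := congrArg (fun x => c⁻¹ • x) this
      simp only [smul_smul, inv_mul_cancel₀ hc0, one_smul] at e
      exact e.symm
    refine ⟨c⁻¹, fun s => ?_⟩
    rw [← act_end, show tt z 1 * (tt 1 (Units.mk0 k hk * s))⁻¹ = (tt 1 (Units.mk0 k hk * s))⁻¹ * tt z 1 by
      rw [eq_inv_mul_iff_mul_eq, ← mul_assoc, tt_mul, one_mul, mul_one, mul_inv_eq_iff_eq_mul, tt_mul, mul_one, one_mul],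
      act_end, show φ (tt z 1) v' = φ (n7 * h) v by rw [hh, ← act_end]; congr 2; group, act_end, hhv, map_smul,
      map_smul]

theorem indep_le_W (u : Fˣ → V) (h0 : ∀ s, u s ≠ 0) (hM : ∀ s, u s ∈ M φ)
    (h6 : ∀ s t, φ (g 6 t) (u s) = ch (s : F) t • u s) : Fintype.card F - 1 ≤ W φ := by
  classical
  have hli : LinearIndependent ℂ u := eigen_indep (φ := φ) (e := g (F := F) 6) (g_add 6) (fun s : Fˣ => ch (s : F))
    (fun s s' h => Units.ext (ch_inj h)) u h0 h6
  rw [← Fintype.card_units, ← finrank_M]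
  exact (LinearIndependent.of_comp (M φ).subtype
    (v := fun s => (⟨u s, hM s⟩ : ↥(M φ))) hli).fintype_card_le_finrank

theorem exists_cube_ne_one (hq : 4 < Fintype.card F) : ∃ u : Fˣ, (u : F) ^ 3 ≠ 1 := by
  classical
  by_contra hh
  push Not at hh
  have hsub : (Finset.univ : Finset Fˣ).image Units.val ⊆
      (Polynomial.nthRoots 3 (1 : F)).toFinset := fun x hx => by
    obtain ⟨u, -, rfl⟩ := Finset.mem_image.1 hx
    simpa [Polynomial.mem_nthRoots] using hh u
  have := (Finset.card_le_card hsub).trans ((Multiset.toFinset_card_le _).trans (Polynomial.card_nthRoots 3 1))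
  rw [Finset.card_image_of_injective _ (fun a b h => Units.ext h), Finset.card_univ, Fintype.card_units] at this
  omega

/-- The bound `q³ - 1`. -/
theorem bound_two (h3 : (3 : F) ≠ 0) (hq : 4 < Fintype.card F) (hφ : Function.Injective φ) :
    Fintype.card F ^ 3 - 1 ≤ Module.finrank ℂ V := by
  rw [split φ h3]
  have hm := m_ne_zero φ h3 hφ
  rcases (show m φ = 1 ∨ 2 ≤ m φ by omega) with h1 | h2
  · obtain ⟨u, h0, hM, h6, -⟩ := exists_u φ h3 (exists_cube_ne_one hq) h1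
    have hW := indep_le_W φ u h0 hM h6
    rw [h1, mul_one, Nat.sub_mul, one_mul, ← pow_succ]
    have : Fintype.card F ≤ Fintype.card F ^ 3 := Nat.le_self_pow (by norm_num) _
    norm_num
    omega
  · have hA : Fintype.card F * 2 ≤ Fintype.card F * m φ := Nat.mul_le_mul_left _ h2
    have hB := Nat.mul_le_mul_left (Fintype.card F ^ 2 - 1) hA
    have e : (Fintype.card F ^ 2 - 1) * (Fintype.card F * 2) = (Fintype.card F ^ 3 - Fintype.card F) * 2 := by
      rw [← mul_assoc, Nat.sub_mul, one_mul, ← pow_succ]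
    have : Fintype.card F * 2 ≤ Fintype.card F ^ 3 := by
      have h := Nat.pow_le_pow_left hq.le 2
      calc Fintype.card F * 2 ≤ Fintype.card F * Fintype.card F ^ 2 := Nat.mul_le_mul_left _ (by omega)
        _ = _ := by ring
    omega

end Cfsg.Lib.GTwoDeg
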