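import Cfsg.Agent.Chev.GTwoDeg.ThreeRel

/-! The bound `q⁴ + q² + 1` in characteristic three. -/

set_option autoImplicit false
set_option linter.unusedSectionVars false
set_option maxHeartbeats 1000000

open Cfsg.Lie
open Cfsg.Lib.TwDeg (proj dd act_end act_ne_zero act_cancel e_mul_proj mem_iff exists_mem line eigen_indep total
  proj_idem)

namespace Cfsg.Lib.GTwoDeg

section phases

variable {G : Type*} [Group G] {V : Type*} [AddCommGroup V] [Module ℂ V] [FiniteDimensional ℂ V]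
  (φ : G →* Module.End ℂ V) {F : Type*} [Field F] [Fintype F]

/-- When translations permute the characters transitively, all occur equally often. -/
theorem phases (R : Submodule ℂ V) (x : F → G) (hx : ∀ a b, x a * x b = x (a + b))
    (hxR : ∀ t, ∀ v ∈ R, φ (x t) v ∈ R) (y : F → G) (hyR : ∀ u, ∀ v ∈ R, φ (y u) v ∈ R)
    (δ : F → F) (hδ : Function.Surjective δ)
    (tr : ∀ u s, ∀ v ∈ R, (∀ t, φ (x t) v = ch s t • v) → ∀ t, φ (x t) (φ (y u) v) = ch (s + δ u) t • φ (y u) v) :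
    Fintype.card F ∣ Module.finrank ℂ R ∧
      (Module.finrank ℂ R ≠ 0 → ∀ s, ∃ v ∈ R, v ≠ 0 ∧ ∀ t, φ (x t) v = ch s t • v) := by
  classical
  let xR : F → ↥(stab φ R) := fun t => ⟨x t, mem_stab_of φ (hxR t)⟩
  have hxR' : ∀ a b, xR a * xR b = xR (a + b) := fun a b => Subtype.ext (hx a b)
  have tr' : ∀ u s (v : R), (∀ t, res φ R (xR t) v = ch s t • v) →
      ∀ t, res φ R (xR t) ⟨φ (y u) v, hyR u v v.2⟩ = ch (s + δ u) t • ⟨φ (y u) v, hyR u v v.2⟩ := fun u s v hv t =>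
    Subtype.ext (tr u s v v.2 (fun t => by simpa [xR] using congrArg Subtype.val (hv t)) t)
  have le : ∀ s u, dd (res φ R) xR (ch s) ≤ dd (res φ R) xR (ch (s + δ u)) := by
    intro s u
    let f : LinearMap.range (proj (res φ R) xR (ch s)) →ₗ[ℂ] LinearMap.range (proj (res φ R) xR (ch (s + δ u))) :=
      LinearMap.codRestrict _ ((φ (y u)).restrict (hyR u) ∘ₗ Submodule.subtype _) fun v =>
        (mem_iff hxR' _ _).2 (tr' u s _ ((mem_iff hxR' _ _).1 v.2))
    refine LinearMap.finrank_le_finrank_of_injective (f := f) fun v w h => ?_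
    have h1 : φ (y u) ((v : R) : V) = φ (y u) ((w : R) : V) := congrArg (fun z => ((z.1 : R) : V)) h
    have h2 := congrArg (φ (y u)⁻¹) h1
    rw [← act_end, ← act_end, inv_mul_cancel, map_one] at h2
    exact Subtype.ext (Subtype.ext h2)
  have const : ∀ s, dd (res φ R) xR (chE s) = dd (res φ R) xR (ch (0 : F)) := by
    intro s
    obtain ⟨u, hu⟩ := hδ s
    obtain ⟨u', hu'⟩ := hδ (-s)
    refine le_antisymm ?_ ?_
    · have := le s u'
      rw [hu', add_neg_cancel] at this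
      exact this
    · have := le 0 u
      rw [hu, zero_add] at this
      exact this
  have ht := total (φ := res φ R) (e := xR) hxR' chE
  rw [Finset.sum_congr rfl fun s _ => const s, Finset.sum_const, Finset.card_univ, smul_eq_mul] at ht
  refine ⟨Dvd.intro _ ht.symm, fun hne s => ?_⟩
  obtain ⟨v, hv0, hv⟩ := exists_mem (φ := res φ R) (e := xR) hxR' (ψ := chE s) (by
    rw [const s]
    intro h0
    exact hne (by rw [ht, h0, mul_zero]))
  exact ⟨v, v.2, fun e => hv0 (Subtype.ext e), fun t => by simpa [xR, chE_apply] using congrArg Subtype.val (hv t)⟩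

end phases

variable {F : Type*} [Field F] [Fintype F] {V : Type*} [AddCommGroup V] [Module ℂ V] [FiniteDimensional ℂ V]
  (φ : G2 F →* Module.End ℂ V)

/-- Eigenvectors of the abelian group of order `q⁴`. -/
def E4 (w : F × F × F × F) (v : V) : Prop := ∀ p, φ (e4 p) v = chi4 w p • v

/-- The space of eigenvectors. -/
noncomputable def R4 (w : F × F × F × F) : Submodule ℂ V := LinearMap.range (proj φ e4 (chi4 w))

theorem mem_R4 (h3 : (3 : F) = 0) (w : F × F × F × F) (v : V) : v ∈ R4 φ w ↔ E4 φ w v :=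
  mem_iff (φ := φ) (e := e4 (F := F)) (e4_add h3) _ v

theorem finrank_R4 (w : F × F × F × F) : Module.finrank ℂ (R4 φ w) = D4 φ w.1 w.2.1 w.2.2.1 w.2.2.2 := rfl

theorem E4.at8 {φ : G2 F →* Module.End ℂ V} {w : F × F × F × F} {v : V} (h : E4 φ w v) (t : F) :
    φ (g 8 t) v = psi (w.1 * t) • v := by rw [← e4_iA, h]; simp [iA, chi4_apply]

theorem E4.at9 {φ : G2 F →* Module.End ℂ V} {w : F × F × F × F} {v : V} (h : E4 φ w v) (t : F) :
    φ (g 9 t) v = psi (w.2.1 * t) • v := by rw [← e4_iB, h]; simp [iB, chi4_apply]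

theorem E4.at10 {φ : G2 F →* Module.End ℂ V} {w : F × F × F × F} {v : V} (h : E4 φ w v) (t : F) :
    φ (g 10 t) v = psi (w.2.2.1 * t) • v := by rw [← e4_iC, h]; simp [iC, chi4_apply]

theorem E4.at11 {φ : G2 F →* Module.End ℂ V} {w : F × F × F × F} {v : V} (h : E4 φ w v) (t : F) :
    φ (g 11 t) v = psi (w.2.2.2 * t) • v := by rw [← e4_iD, h]; simp [iD, chi4_apply]

theorem E4_zero_of (v : V) (h8 : ∀ t, φ (g 8 t) v = v) (h9 : ∀ t, φ (g 9 t) v = v) (h10 : ∀ t, φ (g 10 t) v = v)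
    (h11 : ∀ t, φ (g 11 t) v = v) : E4 φ (0, 0, 0, 0) v := fun p => by
  rw [e4, e3, e2, act_end, act_end, act_end, h11, h10, h9, h8]
  simp [chi4_apply]

theorem E4.g6 (h3 : (3 : F) = 0) {φ : G2 F →* Module.End ℂ V} {a b c d : F} {v : V} (h : E4 φ (a, b, c, d) v)
    (r : F) : E4 φ (a, b, c - r * d, d) (φ (g 6 r) v) := fun p => by
  have e := g6_e4 (-r) p
  rw [← g_inv, inv_inv] at e
  rw [← act_end, show e4 p * g 6 r = g 6 r * ((g 6 r)⁻¹ * e4 p * g 6 r) by group, e, act_end, h, map_smul]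
  congr 1
  simp only [chi4_apply]
  congr 1
  ring

theorem E4.g7 (h3 : (3 : F) = 0) {φ : G2 F →* Module.End ℂ V} {a b c d : F} {v : V} (h : E4 φ (a, b, c, d) v)
    (t : F) : E4 φ (a + 2 * t * b, b, c, d) (φ (g 7 t) v) := fun p => by
  have e := g7_e4 h3 (-t) p
  rw [← g_inv, inv_inv] at e
  rw [← act_end, show e4 p * g 7 t = g 7 t * ((g 7 t)⁻¹ * e4 p * g 7 t) by group, e, act_end, h, map_smul]
  congr 1
  simp only [chi4_apply]
  congr 1
  ring

theorem word67 (t u : F) : g 7 u * g 6 t =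
    g 6 t * g 7 u * e4 (-(t * u), -(t * u ^ 2), t * u ^ 3, -2 * t ^ 2 * u ^ 3) := by
  rw [mul_right_cancel (c67 t u), e4, e3, e2]
  simp only [mul_assoc]

theorem R4_g6 (h3 : (3 : F) = 0) (a b c : F) (r : F) :
    ∀ v ∈ R4 φ (a, b, c, 0), φ (g 6 r) v ∈ R4 φ (a, b, c, 0) := fun v hv => by
  have := (((mem_R4 φ h3 _ v).1 hv).g6 h3 r)
  rw [mul_zero, sub_zero] at this
  exact (mem_R4 φ h3 _ _).2 this

theorem R4_g7 (h3 : (3 : F) = 0) (a c d : F) (t : F) :
    ∀ v ∈ R4 φ (a, 0, c, d), φ (g 7 t) v ∈ R4 φ (a, 0, c, d) := fun v hv => by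
  have := (((mem_R4 φ h3 _ v).1 hv).g7 h3 t)
  rw [mul_zero, add_zero] at this
  exact (mem_R4 φ h3 _ _).2 this

theorem trans6 {a c : F} {v : V} (hv : E4 φ (a, 0, c, 0) v) (u s : F) (hs : ∀ t, φ (g 6 t) v = ch s t • v) (t : F) :
    φ (g 6 t) (φ (g 7 u) v) = ch (s + (a * u - c * u ^ 3)) t • φ (g 7 u) v := by
  have e := congrArg (fun x : G2 F => φ x v) (word67 t u)
  simp only [act_end, hs, hv _, map_smul] at e
  have hne := ch_ne_zero (chi4 (a, 0, c, 0)) (-(t * u), -(t * u ^ 2), t * u ^ 3, -2 * t ^ 2 * u ^ 3)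
  have e2 := congrArg (fun x => (chi4 (a, 0, c, 0) (-(t * u), -(t * u ^ 2), t * u ^ 3, -2 * t ^ 2 * u ^ 3))⁻¹ • x) e
  simp only [smul_smul, inv_mul_cancel₀ hne, one_smul] at e2
  rw [← e2, ← AddChar.map_neg_eq_inv, chi4_apply, ch_apply, ch_apply, ← AddChar.map_add_eq_mul]
  congr 2
  simp only [Prod.fst_neg, Prod.snd_neg]
  ring

theorem trans7 {a : F} {v : V} (hv : E4 φ (a, 0, 0, 0) v) (r s : F) (hs : ∀ t, φ (g 7 t) v = ch s t • v) (t : F) :
    φ (g 7 t) (φ (g 6 r) v) = ch (s + -(a * r)) t • φ (g 6 r) v := by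
  have e := congrArg (fun x : G2 F => φ x v) (word67 r t)
  simp only [act_end, hs, hv _, map_smul, smul_smul] at e
  rw [e, chi4_apply, ch_apply, ch_apply, ← AddChar.map_add_eq_mul]
  congr 2
  ring

theorem cube_sub (h3 : (3 : F) = 0) (x y : F) : (x - y) ^ 3 = x ^ 3 - y ^ 3 := by
  linear_combination (-(x ^ 2 * y) + x * y ^ 2) * h3

/-- No representation has trivial multiplicity on the generic characters. -/
theorem m_pos (h3 : (3 : F) = 0) (hq : 4 < Fintype.card F) (hφ : Function.Injective φ) : mP φ ≠ 0 := by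
  classical
  intro hm
  obtain ⟨-, -, -, hf, -⟩ := identities φ h3
  rw [hm] at hf
  have shape : ∀ a b c d : F, d ≠ 0 → D4 φ a b c d ≠ 0 → a = 0 ∧ b = 0 := by
    intro a b c d hd hne
    rcases eq_or_ne b 0 with rfl | hb
    · rcases eq_or_ne a 0 with rfl | ha
      · exact ⟨rfl, rfl⟩
      · exact absurd ((valQ1 φ h3 c ha hd).trans hf) hne
    · exact absurd ((valP φ h3 a c hb hd).trans hm) hne
  have hsum := Cfsg.Lib.TwDeg.sum_proj (φ := φ) (e := e4 (F := F)) (e4_add h3)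
  have ea : ∀ (p : F × F × F × F) (ψ : AddChar (F × F × F × F) ℂ),
      φ (e4 p) * proj φ e4 ψ = ψ p • proj φ e4 ψ := fun p ψ =>
    e_mul_proj (φ := φ) (e := e4 (F := F)) (e4_add h3) ψ p
  have fix8 : ∀ (δ : F), δ ≠ 0 → ∀ y : V, (∀ s, φ (g 11 s) y = psi (δ * s) • y) → ∀ t, φ (g 8 t) y = y := by
    intro δ hδ y hy t
    have hy' := LinearMap.congr_fun hsum y
    rw [LinearMap.sum_apply, Module.End.one_apply] at hy'
    conv_lhs => rw [← hy']
    rw [map_sum]
    conv_rhs => rw [← hy']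
    refine Finset.sum_congr rfl fun ψ _ => ?_
    obtain ⟨⟨a, b, c, d⟩, rfl⟩ := (chi4 (F := F)).surjective ψ
    by_cases h0 : proj φ e4 (chi4 (a, b, c, d)) y = 0
    · rw [h0, map_zero]
    have hd : d = δ := by
      refine sub_eq_zero.1 (psi_nd fun s => ?_)
      have h1 : φ (g 11 s) (proj φ e4 (chi4 (a, b, c, d)) y) = psi (d * s) • proj φ e4 (chi4 (a, b, c, d)) y := by
        rw [← e4_iD, ← Module.End.mul_apply, ea, LinearMap.smul_apply]; simp [iD, chi4_apply]
      have h2 : φ (g 11 s) (proj φ e4 (chi4 (a, b, c, d)) y) = psi (δ * s) • proj φ e4 (chi4 (a, b, c, d)) y := by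
        rw [← e4_iD, ← Module.End.mul_apply, proj_comm φ e4 (e4 (iD s)) (AddEquiv.refl _) (fun r => by
          rw [e4_add h3, add_comm, ← e4_add h3, mul_inv_cancel_right]; rfl) _ fun r => rfl,
          Module.End.mul_apply, e4_iD, hy, map_smul]
      rw [sub_mul, AddChar.map_sub_eq_div, smul_left_injective ℂ h0 (h1.symm.trans h2), div_self (ch_ne_zero _ _)]
    have hne : D4 φ a b c d ≠ 0 := fun h => h0 (by
      rw [show proj φ e4 (chi4 (a, b, c, d)) = 0 by
        rw [← LinearMap.range_eq_bot, ← Submodule.finrank_eq_zero (R := ℂ)]; exact h, LinearMap.zero_apply])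
    rw [← e4_iA, ← Module.End.mul_apply, ea, LinearMap.smul_apply]
    simp [iA, chi4_apply, (shape a b c d (hd ▸ hδ) hne).1]
  -- some character nontrivial on the highest root occurs
  have he : eQ φ ≠ 0 := by
    intro h0
    have h1 : φ (e4 (iD (1 : F))) = 1 := by
      have h := congrArg (φ (e4 (iD (1 : F))) * ·) hsum
      simp only [Finset.mul_sum, ea, mul_one] at h
      rw [← h, ← hsum]
      refine Finset.sum_congr rfl fun ψ _ => ?_
      obtain ⟨⟨a, b, c, d⟩, rfl⟩ := (chi4 (F := F)).surjective ψ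
      rcases eq_or_ne d 0 with rfl | hd
      · simp [iD, chi4_apply]
      · have : proj φ e4 (chi4 (a, b, c, d)) = 0 := by
          rw [← LinearMap.range_eq_bot, ← Submodule.finrank_eq_zero (R := ℂ)]
          by_contra hne
          obtain ⟨rfl, rfl⟩ := shape a b c d hd hne
          exact hne ((valQ0 φ h3 c hd).trans h0)
        simp [this]
    rw [e4_iD] at h1
    exact one_ne_zero (g_inj (by norm_num) (hφ (h1.trans (map_one φ).symm) |>.trans (g_zero 11).symm))
  obtain ⟨v, hv0, hv'⟩ := exists_mem (φ := φ) (e := e4 (F := F)) (e4_add h3) (ψ := chi4 ((0 : F), 0, 1, 1))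
    (show D4 φ 0 0 1 1 ≠ 0 by rw [valQ0 φ h3 1 one_ne_zero]; exact he)
  have hv : E4 φ (0, 0, 1, 1) v := hv'
  have fix7 : ∀ (c d : F) (w : V), c ≠ 0 → E4 φ (0, 0, c, d) w → ∀ u, φ (g 7 u) w = w := by
    intro c d w hc hw
    obtain ⟨k, hk, ek⟩ := move6 (F := F) (r := 10) (r' := 11) (by simp)
    have h11 : ∀ s, φ (g 11 s) (φ n6 w) = psi (c / k * s) • φ n6 w := fun s => by
      have := ek (k⁻¹ * s)
      rw [← mul_assoc, mul_inv_cancel₀ hk, one_mul] at this
      rw [← this, ← act_end, inv_mul_cancel_right, act_end, hw.at10, map_smul]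
      congr 2
      show c * (k⁻¹ * s) = c / k * s
      rw [div_eq_mul_inv, mul_assoc]
    have h := fix_move φ (move6 (F := F) (r := 7) (r' := 8) (by simp)).inv (fix8 _ (div_ne_zero hc hk) _ h11)
    rwa [← act_end, inv_mul_cancel, map_one, Module.End.one_apply] at h
  have key : ∀ r : F, r ≠ 1 → psi (r + -2 * r ^ 2) = 1 := by
    intro r hr
    have hv6 := hv.g6 h3 r
    rw [mul_one] at hv6
    have h7 := fix7 _ _ _ (sub_ne_zero.2 (Ne.symm hr)) hv6 1
    have e := congrArg (fun x : G2 F => φ x v) (word67 r 1)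
    simp only [act_end, h7, hv _, map_smul, fix7 _ _ v one_ne_zero hv] at e
    have h1 : (1 : ℂ) • φ (g 6 r) v = _ := (one_smul ℂ _).trans e
    have h2 := smul_left_injective ℂ (act_ne_zero φ _ hv0) h1
    rw [chi4_apply] at h2
    simp only [zero_mul, zero_add, one_mul, one_pow, mul_one] at h2
    exact h2.symm
  have hexist : ∀ S : Finset F, S.card ≤ 4 → ∃ x, x ∉ S := fun S hS => by
    by_contra hh
    push Not at hh
    have := Finset.card_le_card (show (Finset.univ : Finset F) ⊆ S from fun x _ => hh x)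
    rw [Finset.card_univ] at this
    omega
  obtain ⟨r, hr⟩ := hexist {0, 1} ((Finset.card_le_two).trans (by norm_num))
  simp only [Finset.mem_insert, Finset.mem_singleton, not_or] at hr
  have h4 : (-4 : F) * r ≠ 0 := mul_ne_zero (fun h => one_ne_zero (α := F) (by linear_combination -h - h3)) hr.1
  have good : ∀ s : F, s ≠ 1 → s ≠ 1 - r → psi (-4 * r * s) = 1 := fun s hs hs' => by
    have h := key (r + s) (fun e => hs' (eq_sub_of_add_eq' e))
    rw [show r + s + -2 * (r + s) ^ 2 = r + -2 * r ^ 2 + (s + -2 * s ^ 2) + -4 * r * s by ring,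
      AddChar.map_add_eq_mul, AddChar.map_add_eq_mul, key r hr.2, key s hs, one_mul, one_mul] at h
    exact h
  refine h4 (psi_nd fun x => ?_)
  obtain ⟨y, hy⟩ := hexist {1, 1 - r, x - 1, x - (1 - r)} Finset.card_le_four
  simp only [Finset.mem_insert, Finset.mem_singleton, not_or] at hy
  rw [show -4 * r * x = -4 * r * y + -4 * r * (x - y) by ring, AddChar.map_add_eq_mul, good y hy.1 hy.2.1,
    good (x - y) (fun e => hy.2.2.1 (by linear_combination -e)) (fun e => hy.2.2.2 (by linear_combination -e)),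
    one_mul]

/-- Mixed characters on the roots `a+b`, `3a+b` do not occur when the degree is small. -/
theorem mixed_zero (h3 : (3 : F) = 0) (hq : 8 < Fintype.card F) (hTS : TS φ ≤ SC φ + (Fintype.card F - 1) * (3 + (Fintype.card F - 1)))
    {a c : F} (ha : a ≠ 0) (hc : c ≠ 0) : Sv φ a c = 0 := by
  classical
  by_contra hne
  let x6 : F → ↥(stab φ (R4 φ (a, 0, c, 0))) := fun t => ⟨g 6 t, mem_stab_of φ (R4_g6 φ h3 a 0 c t)⟩
  have hx6 : ∀ p r, x6 p * x6 r = x6 (p + r) := fun p r => Subtype.ext (g_add 6 p r)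
  obtain ⟨s, hs⟩ : ∃ s, dd (res φ (R4 φ (a, 0, c, 0))) x6 (chE s) ≠ 0 := by
    by_contra hh
    push Not at hh
    have ht := total (φ := res φ (R4 φ (a, 0, c, 0))) (e := x6) hx6 chE
    rw [Finset.sum_congr rfl fun s _ => hh s, Finset.sum_const_zero, finrank_R4] at ht
    exact hne ht
  obtain ⟨v, hv0, hv⟩ := exists_mem (φ := res φ (R4 φ (a, 0, c, 0))) (e := x6) hx6 hs
  have hvE : E4 φ (a, 0, c, 0) (v : V) := (mem_R4 φ h3 _ _).1 v.2
  have hv6 : ∀ t, φ (g 6 t) (v : V) = ch s t • (v : V) := fun t => by simpa [x6, chE_apply] using congrArg Subtype.val (hv t)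
  let δ : F → F := fun u => a * u - c * u ^ 3
  set I := (Finset.univ : Finset F).image δ with hI
  have hcardI : Fintype.card F ≤ 3 * I.card := by
    rw [← Finset.card_univ]
    refine Finset.card_le_mul_card_image _ 3 fun y hy => ?_
    obtain ⟨u0, -, hu0⟩ := Finset.mem_image.1 hy
    refine (Finset.card_le_card_of_injOn (t := insert 0 (Polynomial.nthRoots 2 (a / c)).toFinset) (fun u => u - u0) ?_
      (fun p _ r _ h => sub_left_injective h)).trans ((Finset.card_insert_le _ _).trans (Nat.add_le_add_right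
        ((Multiset.toFinset_card_le _).trans (Polynomial.card_nthRoots 2 _)) 1))
    intro u hu
    simp only [Finset.coe_filter, Finset.mem_univ, true_and, Set.mem_setOf_eq] at hu
    simp only [Finset.coe_insert, Set.mem_insert_iff, Finset.mem_coe, Multiset.mem_toFinset,
      Polynomial.mem_nthRoots (show 0 < 2 by norm_num)]
    rw [← hu0] at hu
    rcases eq_or_ne (u - u0) 0 with h | h
    · exact Or.inl h
    · refine Or.inr ?_
      have h1 : (u - u0) * (a - c * (u - u0) ^ 2) = 0 := by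
        have := cube_sub h3 u u0
        simp only [δ] at hu
        linear_combination hu - c * this
      have h2 := (mul_eq_zero.1 h1).resolve_left h
      field_simp
      linear_combination -h2
  have hS3 : I.card ≤ Sv φ a c := by
    choose f hf using fun y : I => Finset.mem_image.1 y.2
    have hli : LinearIndependent ℂ fun y : I => φ (g 7 (f y)) (v : V) :=
      eigen_indep (φ := φ) (e := g (F := F) 6) (g_add 6) (fun y : I => ch (s + δ (f y)))
        (fun y y' h => Subtype.ext (by rw [← (hf y).2, ← (hf y').2]; exact add_left_cancel (ch_inj h))) _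
        (fun y => act_ne_zero φ _ fun e => hv0 (Subtype.ext e)) fun y t => trans6 φ hvE (f y) s hv6 t
    have := (LinearIndependent.of_comp (R4 φ (a, 0, c, 0)).subtype (v := fun y : I =>
      (⟨φ (g 7 (f y)) (v : V), R4_g7 φ h3 a c 0 (f y) _ v.2⟩ : ↥(R4 φ (a, 0, c, 0)))) hli).fintype_card_le_finrank
    rwa [Fintype.card_coe, finrank_R4] at this
  set J := (Finset.univ : Finset (Fˣ × Fˣ)).image (fun p => (a * (p.1 : F), c * (p.1 : F) * (p.2 : F) ^ 2)) with hJ
  have hcardJ : (Fintype.card F - 1) * (Fintype.card F - 1) ≤ 2 * J.card := by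
    rw [← Fintype.card_units, ← Fintype.card_prod, ← Finset.card_univ]
    refine Finset.card_le_mul_card_image _ 2 fun y hy => ?_
    obtain ⟨p0, -, hp0⟩ := Finset.mem_image.1 hy
    refine (Finset.card_le_card (t := {p0, (p0.1, -p0.2)}) fun p hp => ?_).trans Finset.card_le_two
    rw [Finset.mem_filter, ← hp0, Prod.ext_iff] at hp
    have h1 : p.1 = p0.1 := Units.ext (mul_left_cancel₀ ha hp.2.1)
    have h2 : (p.2 : F) ^ 2 = (p0.2 : F) ^ 2 := by
      have := hp.2.2
      simp only [h1] at this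
      exact mul_left_cancel₀ (mul_ne_zero hc p0.1.ne_zero) this
    rcases sq_eq_sq_iff_eq_or_eq_neg.1 h2 with h | h
    · simp [Prod.ext_iff, h1, Units.ext h]
    · have : p.2 = -p0.2 := Units.ext (by rw [h, Units.val_neg])
      simp [Prod.ext_iff, h1, this]
  have hJS : ∀ y ∈ J, Sv φ y.1 y.2 = Sv φ a c := by
    intro y hy
    obtain ⟨⟨t, u⟩, -, rfl⟩ := Finset.mem_image.1 hy
    have h := D4_tt φ h3 u (t / u) a 0 c 0
    rw [mul_zero, mul_zero] at h
    show D4 φ (a * t) 0 (c * t * (u : F) ^ 2) 0 = D4 φ a 0 c 0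
    rw [← h]
    congr 1
    · rw [Units.val_div_eq_div_val, mul_div_cancel₀ _ u.ne_zero, mul_comm]
    · rw [Units.val_div_eq_div_val]; field_simp
  have hTS' : SC φ + J.card * Sv φ a c ≤ TS φ := by
    set K := (Finset.univ : Finset F).image (fun c : F => ((0 : F), c)) with hK
    have hdis : Disjoint K J := Finset.disjoint_left.2 fun y h h' => by
      obtain ⟨x, -, rfl⟩ := Finset.mem_image.1 h
      obtain ⟨p, -, hp⟩ := Finset.mem_image.1 h'
      exact mul_ne_zero ha p.1.ne_zero (congrArg Prod.fst hp)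
    calc SC φ + J.card * Sv φ a c = (∑ y ∈ K, Sv φ y.1 y.2) + ∑ y ∈ J, Sv φ y.1 y.2 := by
          rw [Finset.sum_congr rfl hJS, Finset.sum_const, smul_eq_mul, hK,
            Finset.sum_image fun x _ y _ h => congrArg Prod.snd h]
          rfl
      _ = ∑ y ∈ K ∪ J, Sv φ y.1 y.2 := (Finset.sum_union hdis).symm
      _ ≤ ∑ y : F × F, Sv φ y.1 y.2 := Finset.sum_le_sum_of_subset (Finset.subset_univ _)
      _ = TS φ := Fintype.sum_prod_type _
  have hbig : (Fintype.card F - 1) * (Fintype.card F - 1) * Fintype.card F ≤ 6 * (J.card * Sv φ a c) := by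
    calc _ ≤ (2 * J.card) * (3 * I.card) := Nat.mul_le_mul hcardJ hcardI
      _ ≤ (2 * J.card) * (3 * Sv φ a c) := Nat.mul_le_mul_left _ (Nat.mul_le_mul_left _ hS3)
      _ = _ := by ring
  obtain ⟨j, hj⟩ : ∃ j, Fintype.card F = j + 9 := ⟨Fintype.card F - 9, by omega⟩
  rw [hj, show j + 9 - 1 = j + 8 by omega] at hbig hTS
  nlinarith

/-- Two independent directions of nontrivial characters on the space fixed by the abelian group. -/
theorem two_n_le (h3 : (3 : F) = 0) (h10 : D4 φ 1 0 0 0 ≠ 0) (h01 : D4 φ 0 0 1 0 ≠ 0) :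
    2 * (Fintype.card F - 1) ≤ D4 φ 0 0 0 0 := by
  classical
  set R := R4 φ ((0 : F), 0, 0, 0) with hR
  -- a vector with a nontrivial phase on each of the two root subgroups
  obtain ⟨w6, s6, hs6, hw60, hw6R, hw6⟩ : ∃ (w : V) (s : F), s ≠ 0 ∧ w ≠ 0 ∧ w ∈ R ∧
      ∀ t, φ (g 6 t) w = ch s t • w := by
    obtain ⟨-, hex⟩ := phases φ (R4 φ ((0 : F), 0, 1, 0)) (g 6) (g_add 6) (R4_g6 φ h3 0 0 1) (g 7) (R4_g7 φ h3 0 1 0)
      (fun u => 0 * u - 1 * u ^ 3) (by
        refine Finite.surjective_of_injective fun x y h => ?_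
        have h' : (x - y) ^ 3 = 0 := by rw [cube_sub h3]; linear_combination -h
        exact sub_eq_zero.1 (pow_eq_zero_iff (by norm_num) |>.1 h'))
      fun u s v hv hs => trans6 φ ((mem_R4 φ h3 _ _).1 hv) u s hs
    obtain ⟨v, hv, hv0, hv6⟩ := hex (by rw [finrank_R4]; exact h01) 0
    have hE := (mem_R4 φ h3 _ _).1 hv
    obtain ⟨k, hk, ek⟩ := move7 (F := F) (r := 10) (r' := 6) (by simp)
    refine ⟨φ n7 v, k⁻¹, inv_ne_zero hk, act_ne_zero φ _ hv0, (mem_R4 φ h3 _ _).2 (E4_zero_of φ _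
      (fix_move φ (move7 (F := F) (r := 9) (r' := 8) (by simp)) fun t => by simp [hE.at9])
      (fix_move φ (move7 (F := F) (r := 8) (r' := 9) (by simp)) fun t => by simp [hE.at8])
      (fix_move φ (move7 (F := F) (r := 6) (r' := 10) (by simp)) fun t => by simp [hv6, ch_apply])
      (fix_move φ (move7 (F := F) (r := 11) (r' := 11) (by simp)) fun t => by simp [hE.at11])), fun t => ?_⟩
    have := ek (k⁻¹ * t)
    rw [← mul_assoc, mul_inv_cancel₀ hk, one_mul] at this
    rw [← this, ← act_end, inv_mul_cancel_right, act_end, hE.at10, map_smul, ch_apply]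
    congr 2
    show 1 * (k⁻¹ * t) = k⁻¹ * t
    rw [one_mul]
  obtain ⟨w7, s7, hs7, hw70, hw7R, hw7⟩ : ∃ (w : V) (s : F), s ≠ 0 ∧ w ≠ 0 ∧ w ∈ R ∧
      ∀ t, φ (g 7 t) w = ch s t • w := by
    obtain ⟨-, hex⟩ := phases φ (R4 φ ((1 : F), 0, 0, 0)) (g 7) (g_add 7) (R4_g7 φ h3 1 0 0) (g 6) (R4_g6 φ h3 1 0 0)
      (fun r => -(1 * r)) (fun x => ⟨-x, by simp⟩)
      fun r s v hv hs => trans7 φ ((mem_R4 φ h3 _ _).1 hv) r s hs
    obtain ⟨v, hv, hv0, hv7⟩ := hex (by rw [finrank_R4]; exact h10) 0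
    have hE := (mem_R4 φ h3 _ _).1 hv
    obtain ⟨k, hk, ek⟩ := move6 (F := F) (r := 8) (r' := 7) (by simp)
    refine ⟨φ n6 v, k⁻¹, inv_ne_zero hk, act_ne_zero φ _ hv0, (mem_R4 φ h3 _ _).2 (E4_zero_of φ _
      (fix_move φ (move6 (F := F) (r := 7) (r' := 8) (by simp)) fun t => by simp [hv7, ch_apply])
      (fix_move φ (move6 (F := F) (r := 9) (r' := 9) (by simp)) fun t => by simp [hE.at9])
      (fix_move φ (move6 (F := F) (r := 11) (r' := 10) (by simp)) fun t => by simp [hE.at11])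
      (fix_move φ (move6 (F := F) (r := 10) (r' := 11) (by simp)) fun t => by simp [hE.at10])), fun t => ?_⟩
    have := ek (k⁻¹ * t)
    rw [← mul_assoc, mul_inv_cancel₀ hk, one_mul] at this
    rw [← this, ← act_end, inv_mul_cancel_right, act_end, hE.at8, map_smul, ch_apply]
    congr 2
    show 1 * (k⁻¹ * t) = k⁻¹ * t
    rw [one_mul]
  -- the two root subgroups commute on this space
  let A : F → Module.End ℂ R := fun t => (φ (g 6 t)).restrict (R4_g6 φ h3 0 0 0 t)
  let B : F → Module.End ℂ R := fun t => (φ (g 7 t)).restrict (R4_g7 φ h3 0 0 0 t)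
  have comm : ∀ s t, B t * A s = A s * B t := fun s t => LinearMap.ext fun v => Subtype.ext (by
    show φ (g 7 t) (φ (g 6 s) (v : V)) = φ (g 6 s) (φ (g 7 t) (v : V))
    rw [← act_end, word67, act_end, (mem_R4 φ h3 _ _).1 v.2, act_end, map_smul, map_smul]
    simp [chi4_apply])
  let ρ : Multiplicative (F × F) →* Module.End ℂ R :=
    { toFun := fun p => A p.toAdd.1 * B p.toAdd.2
      map_one' := LinearMap.ext fun v => Subtype.ext (by simp [A, B, g_zero])
      map_mul' := fun p r => by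
        have hA : ∀ a b, A (a + b) = A a * A b := fun a b => LinearMap.ext fun v => Subtype.ext (by
          show φ (g 6 (a + b)) (v : V) = φ (g 6 a) (φ (g 6 b) (v : V)); rw [← g_add, act_end])
        have hB : ∀ a b, B (a + b) = B a * B b := fun a b => LinearMap.ext fun v => Subtype.ext (by
          show φ (g 7 (a + b)) (v : V) = φ (g 7 a) (φ (g 7 b) (v : V)); rw [← g_add, act_end])
        show A (p.toAdd.1 + r.toAdd.1) * B (p.toAdd.2 + r.toAdd.2) = _
        rw [hA, hB, mul_assoc, ← mul_assoc (A r.toAdd.1), ← comm]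
        simp only [mul_assoc] }
  let e : F × F → Multiplicative (F × F) := Multiplicative.ofAdd
  have he : ∀ p r, e p * e r = e (p + r) := fun p r => rfl
  -- joint eigenvectors
  have joint : ∀ w : R, w ≠ 0 → ∀ (pr : F → F × F) (s : F), (∀ t, ρ (e (pr t)) w = ch s t • w) →
      ∃ (x : R) (σ : F × F), x ≠ 0 ∧ (∀ p, ρ (e p) x = chi2 σ p • x) ∧ ∀ t, chi2 σ (pr t) = ch s t := by
    intro w hw pr s hs
    obtain ⟨ψ, hψ⟩ : ∃ ψ, proj ρ e ψ w ≠ 0 := by
      by_contra hh
      push Not at hh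
      have := LinearMap.congr_fun (Cfsg.Lib.TwDeg.sum_proj (φ := ρ) (e := e) he) w
      rw [LinearMap.sum_apply, Finset.sum_eq_zero fun ψ _ => hh ψ, Module.End.one_apply] at this
      exact hw this.symm
    obtain ⟨σ, rfl⟩ := (chi2 (F := F)).surjective ψ
    refine ⟨_, σ, hψ, (mem_iff (φ := ρ) (e := e) he _ _).1 ⟨w, rfl⟩, fun t => ?_⟩
    have h1 := (mem_iff (φ := ρ) (e := e) he (chi2 σ) (proj ρ e (chi2 σ) w)).1 ⟨w, rfl⟩ (pr t)
    have h2 : ρ (e (pr t)) (proj ρ e (chi2 σ) w) = ch s t • proj ρ e (chi2 σ) w := by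
      rw [← Module.End.mul_apply, proj_comm ρ e (e (pr t)) (AddEquiv.refl _) (fun r => by
        show e (pr t) * e r * (e (pr t))⁻¹ = e r
        rw [mul_comm (e (pr t)), mul_inv_cancel_right]) _ fun r => rfl,
        Module.End.mul_apply, hs, map_smul]
    exact smul_left_injective ℂ hψ (h1.symm.trans h2)
  obtain ⟨x, σ, hx0, hx, hσ⟩ := joint ⟨w6, hw6R⟩ (fun h => hw60 (congrArg Subtype.val h)) (fun t => (t, 0)) s6
    fun t => Subtype.ext (by
      show φ (g 6 t) (φ (g 7 0) w6) = ch s6 t • w6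
      rw [g_zero, map_one]; exact hw6 t)
  obtain ⟨x', σ', hx0', hx', hσ'⟩ := joint ⟨w7, hw7R⟩ (fun h => hw70 (congrArg Subtype.val h)) (fun t => (0, t)) s7
    fun t => Subtype.ext (by
      show φ (g 6 0) (φ (g 7 t) w7) = ch s7 t • w7
      rw [g_zero, map_one]; exact hw7 t)
  have e1 : σ.1 = s6 := ch_inj (DFunLike.ext _ _ fun t => by
    have := hσ t; simpa [chi2_apply, ch_apply] using this)
  have e2 : σ'.2 = s7 := ch_inj (DFunLike.ext _ _ fun t => by
    have := hσ' t; simpa [chi2_apply, ch_apply] using this)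
  -- the torus moves a joint eigenvector
  have moved : ∀ (x : R) (σ : F × F), x ≠ 0 → (∀ p, ρ (e p) x = chi2 σ p • x) → ∀ u v : Fˣ,
      ∃ y : R, y ≠ 0 ∧ ∀ p, ρ (e p) y = chi2 ((v : F) * σ.1, (u : F) * σ.2) p • y := by
    intro x σ hx0 hx u v
    have hmem : φ (tt u v)⁻¹ (x : V) ∈ R := (mem_R4 φ h3 _ _).2 (E4_zero_of φ _
      (fix_move φ (mv_tt (by norm_num) u v).inv fun t => by simp [((mem_R4 φ h3 _ _).1 x.2).at8])
      (fix_move φ (mv_tt (by norm_num) u v).inv fun t => by simp [((mem_R4 φ h3 _ _).1 x.2).at9])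
      (fix_move φ (mv_tt (by norm_num) u v).inv fun t => by simp [((mem_R4 φ h3 _ _).1 x.2).at10])
      (fix_move φ (mv_tt (by norm_num) u v).inv fun t => by simp [((mem_R4 φ h3 _ _).1 x.2).at11]))
    refine ⟨⟨_, hmem⟩, fun h => act_ne_zero φ _ (fun h' => hx0 (Subtype.ext h')) (congrArg Subtype.val h),
      fun p => Subtype.ext ?_⟩
    have h1 := congrArg Subtype.val (hx ((v : F) * p.1, (u : F) * p.2))
    change φ (g 6 ((v : F) * p.1)) (φ (g 7 ((u : F) * p.2)) (x : V)) = _ at h1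
    show φ (g 6 p.1) (φ (g 7 p.2) (φ (tt u v)⁻¹ (x : V))) = _
    rw [← act_end, ← act_end, show g 6 p.1 * g 7 p.2 * (tt u v)⁻¹ = (tt u v)⁻¹ *
      ((tt u v * g 6 p.1 * (tt u v)⁻¹) * (tt u v * g 7 p.2 * (tt u v)⁻¹)) by group, tt6, tt7, act_end, act_end, h1]
    rw [Submodule.coe_smul, map_smul, Submodule.coe_smul]
    congr 1
    simp only [chi2_apply]
    congr 1
    ring
  choose y hy0 hy using moved x σ hx0 hx
  choose y' hy0' hy' using moved x' σ' hx0' hx'
  rw [show D4 φ (0 : F) 0 0 0 = Module.finrank ℂ R from rfl, ← Fintype.card_units]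
  by_cases hall : σ.2 = 0 ∧ σ'.1 = 0
  · have hli := eigen_indep (φ := ρ) (e := e) he
      (fun i : Fˣ ⊕ Fˣ => chi2 (Sum.elim (fun v : Fˣ => ((v : F) * σ.1, (0 : F))) (fun u : Fˣ => ((0 : F), (u : F) * σ'.2)) i))
      (fun i j h => by
        have h' := chi2.injective h
        rcases i with v | u <;> rcases j with v' | u' <;>
          simp only [Sum.elim_inl, Sum.elim_inr, Prod.ext_iff] at h'
        · exact congrArg Sum.inl (Units.ext (mul_right_cancel₀ (e1 ▸ hs6) h'.1))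
        · exact absurd h'.1 (mul_ne_zero v.ne_zero (e1 ▸ hs6))
        · exact absurd h'.2 (mul_ne_zero u.ne_zero (e2 ▸ hs7))
        · exact congrArg Sum.inr (Units.ext (mul_right_cancel₀ (e2 ▸ hs7) h'.2)))
      (Sum.elim (fun v => y 1 v) (fun u => y' u 1)) (by rintro (v | u); exacts [hy0 1 v, hy0' u 1])
      (by
        rintro (v | u) p
        · have := hy 1 v p; simpa [hall.1] using this
        · have := hy' u 1 p; simpa [hall.2] using this)
    have := hli.fintype_card_le_finrank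
    rwa [Fintype.card_sum, ← two_mul] at this
  · obtain ⟨ξ, τ, hτ1, hτ2, hξ0, hξ⟩ : ∃ (ξ : Fˣ × Fˣ → R) (τ : F × F), τ.1 ≠ 0 ∧ τ.2 ≠ 0 ∧ (∀ i, ξ i ≠ 0) ∧
        ∀ i p, ρ (e p) (ξ i) = chi2 ((i.2 : F) * τ.1, (i.1 : F) * τ.2) p • ξ i := by
      by_cases h : σ.2 = 0
      · exact ⟨fun i => y' i.1 i.2, σ', fun h' => hall ⟨h, h'⟩, e2 ▸ hs7, fun i => hy0' _ _, fun i => hy' _ _⟩
      · exact ⟨fun i => y i.1 i.2, σ, e1 ▸ hs6, h, fun i => hy0 _ _, fun i => hy _ _⟩
    have hli := eigen_indep (φ := ρ) (e := e) he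
      (fun i : Fˣ × Fˣ => chi2 ((i.2 : F) * τ.1, (i.1 : F) * τ.2))
      (fun i j h => by
        have h' := Prod.ext_iff.1 (chi2.injective h)
        exact Prod.ext (Units.ext (mul_right_cancel₀ hτ2 h'.2)) (Units.ext (mul_right_cancel₀ hτ1 h'.1))) ξ hξ0 hξ
    have := hli.fintype_card_le_finrank
    rw [Fintype.card_prod] at this
    refine le_trans (Nat.mul_le_mul_right _ ?_) this
    have hq2 : 1 < Fintype.card F := Fintype.one_lt_card
    have : (3 : ℕ) ≤ Fintype.card F := by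
      by_contra hh
      have h2 : Fintype.card F = 2 := by omega
      have := FiniteField.cast_card_eq_zero F
      rw [h2] at this
      exact one_ne_zero (α := F) (by push_cast at this; linear_combination h3 - this)
    rw [Fintype.card_units]
    omega

theorem num_three {q k : ℕ} (hq : 9 ≤ q) (h1 : q ^ 4 + q ^ 2 ≤ k + 2) (h2 : k ≤ q ^ 4 + q ^ 2)
    (h : k ∣ q ^ 6 * ((q ^ 2 - 1) * (q ^ 6 - 1))) : False := by
  have hz : (k : ℤ) ∣ ((q : ℤ) ^ 2) ^ 3 * (((q : ℤ) ^ 2 - 1) * (((q : ℤ) ^ 2) ^ 3 - 1)) := by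
    have := Int.natCast_dvd_natCast.2 h
    rw [Nat.cast_mul, Nat.cast_mul, Nat.cast_sub (Nat.one_le_pow _ _ (by omega)),
      Nat.cast_sub (Nat.one_le_pow _ _ (by omega))] at this
    push_cast at this
    rw [← pow_mul]
    exact this
  have hx : (81 : ℤ) ≤ (q : ℤ) ^ 2 := by
    have : (9 : ℤ) ≤ q := by exact_mod_cast hq
    nlinarith
  set x := (q : ℤ) ^ 2 with hxq
  have hk : (k : ℤ) = x ^ 2 + x - 2 ∨ (k : ℤ) = x ^ 2 + x - 1 ∨ (k : ℤ) = x ^ 2 + x := by
    have e : x ^ 2 + x = ((q ^ 4 + q ^ 2 : ℕ) : ℤ) := by rw [hxq]; push_cast; ring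
    omega
  rcases hk with hk | hk | hk <;> rw [hk] at hz
  · have h3 : x + 2 ∣ x ^ 3 * (x ^ 3 - 1) := by
      have h4 : (x - 1) * (x + 2) ∣ (x - 1) * (x ^ 3 * (x ^ 3 - 1)) := by
        convert hz using 1 <;> ring
      exact (mul_dvd_mul_iff_left (by omega : x - 1 ≠ 0)).1 h4
    have h5 : x + 2 ∣ (72 : ℤ) := by
      have := dvd_sub h3 (dvd_mul_right (x + 2) ((x ^ 2 - 2 * x + 4) * (x ^ 3 - 9)))
      rwa [show x ^ 3 * (x ^ 3 - 1) - (x + 2) * ((x ^ 2 - 2 * x + 4) * (x ^ 3 - 9)) = 72 by ring] at this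
    have := Int.le_of_dvd (by norm_num) h5
    omega
  · have h5 : x ^ 2 + x - 1 ∣ 26 * x - 16 := by
      have := dvd_sub hz (dvd_mul_right (x ^ 2 + x - 1) (x ^ 5 - 2 * x ^ 4 + 3 * x ^ 3 - 6 * x ^ 2 + 10 * x - 16))
      rwa [show x ^ 3 * ((x - 1) * (x ^ 3 - 1)) - (x ^ 2 + x - 1) *
        (x ^ 5 - 2 * x ^ 4 + 3 * x ^ 3 - 6 * x ^ 2 + 10 * x - 16) = 26 * x - 16 by ring] at this
    have := Int.le_of_dvd (by omega) h5
    nlinarith
  · have h3 : x + 1 ∣ x ^ 3 * ((x - 1) * (x ^ 3 - 1)) := (Dvd.intro_left x (by ring)).trans hz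
    have h5 : x + 1 ∣ (-4 : ℤ) := by
      have := dvd_sub h3 (dvd_mul_right (x + 1) (x ^ 6 - 2 * x ^ 5 + 2 * x ^ 4 - 3 * x ^ 3 + 4 * x ^ 2 - 4 * x + 4))
      rwa [show x ^ 3 * ((x - 1) * (x ^ 3 - 1)) -
        (x + 1) * (x ^ 6 - 2 * x ^ 5 + 2 * x ^ 4 - 3 * x ^ 3 + 4 * x ^ 2 - 4 * x + 4) = -4 by ring] at this
    have := Int.le_of_dvd (by norm_num) (dvd_neg.2 h5)
    omega

/-- The bound `q⁴ + q² + 1`. -/
theorem bound_three (h3 : (3 : F) = 0) (hq : 3 < Fintype.card F) (hφ : Function.Injective φ)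
    (hdvd : Module.finrank ℂ V ∣ Fintype.card F ^ 6 * ((Fintype.card F ^ 2 - 1) * (Fintype.card F ^ 6 - 1))) :
    Fintype.card F ^ 4 + Fintype.card F ^ 2 + 1 ≤ Module.finrank ℂ V := by
  classical
  have hq9 : 9 ≤ Fintype.card F := by
    obtain ⟨p, hp⟩ := CharP.exists F
    obtain ⟨n, hpr, hcard⟩ := FiniteField.card F p
    have hp3 : p = 3 := by
      have : p ∣ 3 := (CharP.cast_eq_zero_iff F p 3).1 (by exact_mod_cast h3)
      exact ((Nat.dvd_prime Nat.prime_three).1 this).resolve_left hpr.one_lt.ne'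
    subst hp3
    rcases (show (n : ℕ) = 1 ∨ 2 ≤ (n : ℕ) by have := n.pos; omega) with h | h
    · rw [hcard, h] at hq; norm_num at hq
    · rw [hcard]; exact le_trans (by norm_num) (Nat.pow_le_pow_right (by norm_num) h)
  by_contra hlt
  push Not at hlt
  obtain ⟨hTC, hTA, hfR, hfQ, hk⟩ := identities φ h3
  have hm := m_pos φ h3 (by omega) hφ
  rw [hfR] at hTC hk
  rw [hfQ] at hTA hk
  obtain ⟨j, hj⟩ : ∃ j, Fintype.card F = j + 9 := ⟨Fintype.card F - 9, by omega⟩
  have hn : Fintype.card F - 1 = j + 8 := by omega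
  have hm1 : mP φ = 1 := by
    by_contra hne
    have h2 : 2 ≤ mP φ := by omega
    rw [hn, hj] at hk
    rw [hj] at hlt
    have hX : (j + 8) * (j + 8) * (2 * (j + 9) + (j + 9) * (j + 9)) * mP φ ≤ Module.finrank ℂ V := by
      rw [hk]
      nlinarith [Nat.zero_le (TS φ), Nat.zero_le ((j + 9) * (j + 8) * eR φ), Nat.zero_le ((j + 8) * (j + 9) * eQ φ)]
    have hY := (Nat.mul_le_mul_left ((j + 8) * (j + 8) * (2 * (j + 9) + (j + 9) * (j + 9))) h2).trans hX
    nlinarith
  rw [hm1, mul_one, mul_one] at hk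
  rw [hm1, mul_one] at hTC hTA
  have heR : eR φ ≤ 3 := by
    by_contra h4
    have h4' : 4 ≤ eR φ := by omega
    rw [hn, hj] at hk
    rw [hn] at hTC
    rw [hj] at hlt
    nlinarith [Nat.mul_le_mul_left ((j + 8) * (j + 10)) h4', Nat.zero_le (SC φ)]
  have heQ : eQ φ ≤ 3 := by
    by_contra h4
    have h4' : 4 ≤ eQ φ := by omega
    rw [hn, hj] at hk
    rw [hn] at hTA
    rw [hj] at hlt
    nlinarith [Nat.mul_le_mul_left ((j + 8) * (j + 10)) h4', Nat.zero_le (SA φ)]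
  have hz : ∀ a c : F, a ≠ 0 → c ≠ 0 → Sv φ a c = 0 := fun a c => mixed_zero φ h3 (by omega) (by
    rw [hTC]
    exact Nat.add_le_add_left (Nat.mul_le_mul_left _ (by omega)) _)
  have hA1 : ∀ a : F, a ≠ 0 → Sv φ a 0 = Sv φ 1 0 := fun a ha => by
    have h := D4_tt φ h3 1 (Units.mk0 a ha) 1 0 0 0
    simp only [Units.val_mk0, Units.val_one, mul_zero, mul_one, one_mul, one_pow] at h
    exact h
  have hC1 : ∀ c : F, c ≠ 0 → Sv φ 0 c = Sv φ 0 1 := fun c hc => by
    have h := D4_tt φ h3 1 (Units.mk0 c hc) 0 0 1 0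
    simp only [Units.val_mk0, Units.val_one, mul_zero, mul_one, one_mul, one_pow] at h
    exact h
  have eSA : SA φ = Sv φ 0 0 + (Fintype.card F - 1) * Sv φ 1 0 := sum_split hA1
  have eSC : SC φ = Sv φ 0 0 + (Fintype.card F - 1) * Sv φ 0 1 := sum_split hC1
  have eTS : TS φ = SC φ + (Fintype.card F - 1) * Sv φ 1 0 :=
    sum_split fun a ha => by
      rw [sum_split (fun c hc => hz a c ha hc), hA1 a ha, mul_zero, add_zero]
  have hn0 : 0 < Fintype.card F - 1 := by omega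
  have e10 : Sv φ 1 0 = eR φ + (Fintype.card F - 1) := Nat.eq_of_mul_eq_mul_left hn0 (by omega)
  have e01 : Sv φ 0 1 = eQ φ + (Fintype.card F - 1) := Nat.eq_of_mul_eq_mul_left hn0 (by omega)
  obtain ⟨d10, -⟩ := phases φ (R4 φ ((1 : F), 0, 0, 0)) (g 7) (g_add 7) (R4_g7 φ h3 1 0 0) (g 6)
    (R4_g6 φ h3 1 0 0) (fun r => -(1 * r)) (fun x => ⟨-x, by simp⟩)
    fun r s v hv hs => trans7 φ ((mem_R4 φ h3 _ _).1 hv) r s hs
  obtain ⟨d01, -⟩ := phases φ (R4 φ ((0 : F), 0, 1, 0)) (g 6) (g_add 6) (R4_g6 φ h3 0 0 1) (g 7)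
    (R4_g7 φ h3 0 1 0) (fun u => 0 * u - 1 * u ^ 3) (by
      refine Finite.surjective_of_injective fun x y h => ?_
      have h' : (x - y) ^ 3 = 0 := by rw [cube_sub h3]; linear_combination -h
      exact sub_eq_zero.1 (pow_eq_zero_iff (by norm_num) |>.1 h'))
    fun u s v hv hs => trans6 φ ((mem_R4 φ h3 _ _).1 hv) u s hs
  rw [finrank_R4] at d10 d01
  change Fintype.card F ∣ Sv φ 1 0 at d10
  change Fintype.card F ∣ Sv φ 0 1 at d01
  have eR1 : 1 ≤ eR φ := by
    rw [e10] at d10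
    have := Nat.le_of_dvd (by omega) d10
    omega
  have eQ1 : 1 ≤ eQ φ := by
    rw [e01] at d01
    have := Nat.le_of_dvd (by omega) d01
    omega
  have hd0 : 2 * (Fintype.card F - 1) ≤ Sv φ 0 0 := two_n_le φ h3
    (show Sv φ 1 0 ≠ 0 by omega) (show Sv φ 0 1 ≠ 0 by omega)
  refine num_three hq9 ?_ (by omega) hdvd
  rw [hn, hj] at hk
  rw [hn] at eTS eSC e10 e01 hd0
  rw [eTS, eSC, e10, e01] at hk
  rw [hj]
  nlinarith [Nat.mul_le_mul_left ((j + 8) * (j + 10)) eR1, Nat.mul_le_mul_left ((j + 8) * (j + 10)) eQ1]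

end Cfsg.Lib.GTwoDeg
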