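import Cfsg.Agent.Chev.GTwoDeg.Small

/-! The abelian subgroup of order `q⁴` of `G₂` in characteristic three and the multiplicities of its characters. -/

set_option autoImplicit false
set_option linter.unusedSectionVars false
set_option maxHeartbeats 1000000

open Cfsg.Lie
open Cfsg.Lib.TwDeg (proj dd act_end act_ne_zero act_cancel e_mul_proj mem_iff exists_mem line eigen_indep total)

namespace Cfsg.Lib.GTwoDeg

variable {F : Type*} [Field F] [Fintype F] {V : Type*} [AddCommGroup V] [Module ℂ V] [FiniteDimensional ℂ V]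
  (φ : G2 F →* Module.End ℂ V)

/-- The abelian group of order `q⁴`. -/
noncomputable def e4 (p : F × F × F × F) : G2 F := g 8 p.1 * e3 p.2

theorem g8_comm_e3 (h3 : (3 : F) = 0) (a : F) (p : F × F × F) : Commute (g 8 a) (e3 p) :=
  mul_inv_eq_iff_eq_mul.1 (by rw [g8_e3, h3]; simp)

theorem e4_add (h3 : (3 : F) = 0) (p r : F × F × F × F) : e4 p * e4 r = e4 (p + r) := by
  show g 8 p.1 * e3 p.2 * (g 8 r.1 * e3 r.2) = g 8 (p.1 + r.1) * e3 (p.2 + r.2)
  rw [← g_add, ← e3_add, ← mul_assoc, mul_assoc _ (e3 p.2), ← (g8_comm_e3 h3 r.1 p.2).eq]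
  simp only [mul_assoc]

/-- The characters of the quadruples. -/
noncomputable def chi4 : (F × F × F × F) ≃ AddChar (F × F × F × F) ℂ := cpE chE chi3

theorem chi4_apply (w p : F × F × F × F) :
    chi4 w p = psi (w.1 * p.1 + w.2.1 * p.2.1 + w.2.2.1 * p.2.2.1 + w.2.2.2 * p.2.2.2) := by
  rw [show w.1 * p.1 + w.2.1 * p.2.1 + w.2.2.1 * p.2.2.1 + w.2.2.2 * p.2.2.2 =
    w.1 * p.1 + (w.2.1 * p.2.1 + w.2.2.1 * p.2.2.1 + w.2.2.2 * p.2.2.2) by ring, AddChar.map_add_eq_mul,
    ← chi3_apply (w := w.2) (p := p.2)]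
  rfl

theorem e4_parts (a b c d : F) : e4 (a, b, c, d) = g 8 a * (g 9 b * (g 10 c * g 11 d)) := rfl

theorem g6_e4 (r : F) (p : F × F × F × F) :
    g 6 r * e4 p * (g 6 r)⁻¹ = e4 (p.1, p.2.1, p.2.2.1, p.2.2.2 + r * p.2.2.1) := by
  rw [e4, conj_prod, conj_fix (g_comm (r := 6) (s := 8) (by simp) r p.1), g6_e3]; rfl

theorem g7_e4 (h3 : (3 : F) = 0) (t : F) (p : F × F × F × F) :
    g 7 t * e4 p * (g 7 t)⁻¹ = e4 (p.1, p.2.1 + -2 * t * p.1, p.2.2.1, p.2.2.2) := by
  rw [e4, conj_prod, c78 h3, g7_e3, h3, zero_mul, zero_mul, add_zero, mul_assoc]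
  show g 8 p.1 * (g 9 _ * (g 9 p.2.1 * e2 p.2.2)) = g 8 p.1 * (g 9 _ * e2 p.2.2)
  rw [← mul_assoc (g 9 _) (g 9 _), g_add, add_comm]

theorem tt_e4 (u v : Fˣ) (p : F × F × F × F) : tt u v * e4 p * (tt u v)⁻¹ =
    e4 ((u : F) * v * p.1, (u : F) ^ 2 * v * p.2.1, (u : F) ^ 3 * v * p.2.2.1,
      (u : F) ^ 3 * (v : F) ^ 2 * p.2.2.2) := by
  rw [e4, conj_prod, tt8, tt_e3]; rfl

/-- The multiplicity of a character of the quadruples. -/
noncomputable def D4 (a b c d : F) : ℕ := dd φ e4 (chi4 (a, b, c, d))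

theorem D4_g6 (h3 : (3 : F) = 0) (r a b c d : F) : D4 φ a b (c + r * d) d = D4 φ a b c d := by
  refine Cfsg.Lib.TwDeg.dd_conj (φ := φ) (e := e4 (F := F)) (e4_add h3) (g 6 r)
    { toFun := fun p => (p.1, p.2.1, p.2.2.1, p.2.2.2 + r * p.2.2.1)
      invFun := fun p => (p.1, p.2.1, p.2.2.1, p.2.2.2 - r * p.2.2.1)
      left_inv := fun p => by simp
      right_inv := fun p => by simp
      map_add' := fun p q => by ext <;> simp; ring } (g6_e4 r) fun p => ?_
  rw [chi4_apply, chi4_apply]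
  congr 1
  show a * p.1 + b * p.2.1 + c * p.2.2.1 + d * (p.2.2.2 + r * p.2.2.1) = _
  ring

theorem D4_g7 (h3 : (3 : F) = 0) (t a b c d : F) : D4 φ (a + -2 * t * b) b c d = D4 φ a b c d := by
  refine Cfsg.Lib.TwDeg.dd_conj (φ := φ) (e := e4 (F := F)) (e4_add h3) (g 7 t)
    { toFun := fun p => (p.1, p.2.1 + -2 * t * p.1, p.2.2.1, p.2.2.2)
      invFun := fun p => (p.1, p.2.1 - -2 * t * p.1, p.2.2.1, p.2.2.2)
      left_inv := fun p => by simp
      right_inv := fun p => by simp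
      map_add' := fun p q => by ext <;> simp; ring } (g7_e4 h3 t) fun p => ?_
  rw [chi4_apply, chi4_apply]
  congr 1
  show a * p.1 + b * (p.2.1 + -2 * t * p.1) + c * p.2.2.1 + d * p.2.2.2 = _
  ring

theorem D4_tt (h3 : (3 : F) = 0) (u v : Fˣ) (a b c d : F) :
    D4 φ ((u : F) * v * a) ((u : F) ^ 2 * v * b) ((u : F) ^ 3 * v * c) ((u : F) ^ 3 * (v : F) ^ 2 * d) =
      D4 φ a b c d := by
  refine Cfsg.Lib.TwDeg.dd_conj (φ := φ) (e := e4 (F := F)) (e4_add h3) (tt u v)
    { toFun := fun p => ((u : F) * v * p.1, (u : F) ^ 2 * v * p.2.1, (u : F) ^ 3 * v * p.2.2.1,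
        (u : F) ^ 3 * (v : F) ^ 2 * p.2.2.2)
      invFun := fun p => (((u : F) * v)⁻¹ * p.1, ((u : F) ^ 2 * v)⁻¹ * p.2.1, ((u : F) ^ 3 * v)⁻¹ * p.2.2.1,
        ((u : F) ^ 3 * (v : F) ^ 2)⁻¹ * p.2.2.2)
      left_inv := fun p => by ext <;> simp <;> field_simp
      right_inv := fun p => by ext <;> simp <;> field_simp
      map_add' := fun p q => by ext <;> simp [mul_add] } (tt_e4 u v) fun p => ?_
  rw [chi4_apply, chi4_apply]
  congr 1
  show a * ((u : F) * v * p.1) + b * ((u : F) ^ 2 * v * p.2.1) + c * ((u : F) ^ 3 * v * p.2.2.1) +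
    d * ((u : F) ^ 3 * (v : F) ^ 2 * p.2.2.2) = _
  ring

theorem two_ne (h3 : (3 : F) = 0) : (-2 : F) ≠ 0 := fun h => one_ne_zero (α := F) (by linear_combination h3 + h)

theorem clearA (h3 : (3 : F) = 0) {a b c d : F} (hb : b ≠ 0) : D4 φ a b c d = D4 φ 0 b c d := by
  have h2 := two_ne h3
  have h := D4_g7 φ h3 (-a / (-2 * b)) a b c d
  rw [show a + -2 * (-a / (-2 * b)) * b = 0 by
    rw [show -2 * (-a / (-2 * b)) * b = (-2 * b) * (-a / (-2 * b)) by ring, mul_div_cancel₀ _ (mul_ne_zero h2 hb),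
      add_neg_cancel]] at h
  exact h.symm

theorem clearC (h3 : (3 : F) = 0) {a b c d : F} (hd : d ≠ 0) : D4 φ a b c d = D4 φ a b 0 d := by
  have h := D4_g6 φ h3 (-c / d) a b c d
  rw [show c + -c / d * d = 0 by field_simp; ring] at h
  exact h.symm

/-- The five constants. -/
noncomputable def mP : ℕ := D4 φ (0 : F) 1 0 1
/-- The five constants. -/
noncomputable def eQ : ℕ := D4 φ (0 : F) 0 0 1
/-- The five constants. -/
noncomputable def fQ : ℕ := D4 φ (1 : F) 0 0 1
/-- The five constants. -/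
noncomputable def eR : ℕ := D4 φ (0 : F) 1 0 0
/-- The five constants. -/
noncomputable def fR : ℕ := D4 φ (0 : F) 1 1 0

/-- The multiplicities of the characters trivial on two root subgroups. -/
noncomputable def Sv (a c : F) : ℕ := D4 φ a 0 c 0

theorem valP (h3 : (3 : F) = 0) (a c : F) {b d : F} (hb : b ≠ 0) (hd : d ≠ 0) : D4 φ a b c d = mP φ := by
  rw [clearA φ h3 hb, clearC φ h3 hd]
  have h := D4_tt φ h3 (Units.mk0 (b ^ 2 / d) (by simp [hb, hd])) (Units.mk0 (d ^ 2 / b ^ 3) (by simp [hb, hd])) 0 1 0 1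
  simp only [Units.val_mk0, mul_zero, mul_one] at h
  rw [show (b ^ 2 / d) ^ 2 * (d ^ 2 / b ^ 3) = b by field_simp,
    show (b ^ 2 / d) ^ 3 * (d ^ 2 / b ^ 3) ^ 2 = d by field_simp] at h
  exact h

theorem valQ0 (h3 : (3 : F) = 0) (c : F) {d : F} (hd : d ≠ 0) : D4 φ 0 0 c d = eQ φ := by
  rw [clearC φ h3 hd]
  have h := D4_tt φ h3 (Units.mk0 d hd) (Units.mk0 d⁻¹ (inv_ne_zero hd)) 0 0 0 1
  simp only [Units.val_mk0, mul_zero, mul_one] at h
  rw [show d ^ 3 * (d⁻¹) ^ 2 = d by field_simp] at h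
  exact h

theorem valQ1 (h3 : (3 : F) = 0) {a : F} (c : F) {d : F} (ha : a ≠ 0) (hd : d ≠ 0) : D4 φ a 0 c d = fQ φ := by
  rw [clearC φ h3 hd]
  have h := D4_tt φ h3 (Units.mk0 (d / a ^ 2) (by simp [ha, hd])) (Units.mk0 (a ^ 3 / d) (by simp [ha, hd])) 1 0 0 1
  simp only [Units.val_mk0, mul_zero, mul_one] at h
  rw [show d / a ^ 2 * (a ^ 3 / d) = a by field_simp,
    show (d / a ^ 2) ^ 3 * (a ^ 3 / d) ^ 2 = d by field_simp] at h
  exact h

theorem valR0 (h3 : (3 : F) = 0) (a : F) {b : F} (hb : b ≠ 0) : D4 φ a b 0 0 = eR φ := by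
  rw [clearA φ h3 hb]
  have h := D4_tt φ h3 1 (Units.mk0 b hb) 0 1 0 0
  simp only [Units.val_mk0, Units.val_one, mul_zero, mul_one, one_mul, one_pow] at h
  exact h

theorem valR1 (h3 : (3 : F) = 0) (a : F) {b c : F} (hb : b ≠ 0) (hc : c ≠ 0) : D4 φ a b c 0 = fR φ := by
  rw [clearA φ h3 hb]
  have h := D4_tt φ h3 (Units.mk0 (c / b) (by simp [hb, hc])) (Units.mk0 (b ^ 3 / c ^ 2) (by simp [hb, hc])) 0 1 1 0
  simp only [Units.val_mk0, mul_zero, mul_one] at h
  rw [show (c / b) ^ 2 * (b ^ 3 / c ^ 2) = b by field_simp,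
    show (c / b) ^ 3 * (b ^ 3 / c ^ 2) = c by field_simp] at h
  exact h

theorem sum_split {f : F → ℕ} {A : ℕ} (h : ∀ x : F, x ≠ 0 → f x = A) :
    ∑ x, f x = f 0 + (Fintype.card F - 1) * A := by
  classical
  rw [← Finset.add_sum_erase Finset.univ _ (Finset.mem_univ (0 : F)),
    Finset.sum_congr rfl fun w hw => h w (Finset.mem_erase.1 hw).1, Finset.sum_const,
    Finset.card_erase_of_mem (Finset.mem_univ _), Finset.card_univ, smul_eq_mul]

/-- The fixed space of an image of a group is spanned by the characters trivial on it. -/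
theorem fixDim (h3 : (3 : F) = 0) {B : Type*} [AddCommGroup B] [Fintype B] (ι : B →+ F × F × F × F)
    (P : F → F → F → F → Prop) [∀ a b c d, Decidable (P a b c d)]
    (hP : ∀ a b c d, (∀ x, chi4 (a, b, c, d) (ι x) = 1) ↔ P a b c d) :
    dd φ (fun x => e4 (ι x)) (0 : AddChar B ℂ) =
      ∑ a, ∑ b, ∑ c, ∑ d, if P a b c d then D4 φ a b c d else 0 := by
  classical
  rw [marginal φ e4 (e4_add h3) ι chi4 0, Fintype.sum_prod_type]
  refine Finset.sum_congr rfl fun a _ => ?_
  rw [Fintype.sum_prod_type]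
  refine Finset.sum_congr rfl fun b _ => ?_
  rw [Fintype.sum_prod_type]
  refine Finset.sum_congr rfl fun c _ => Finset.sum_congr rfl fun d _ => if_congr ?_ rfl rfl
  rw [← hP]
  exact ⟨fun h x => by have := DFunLike.congr_fun h x; simpa using this, fun h => DFunLike.ext _ _ fun x => by
    simpa using h x⟩

/-- The maps of the field into the quadruples. -/
def iA : F →+ F × F × F × F := AddMonoidHom.inl F (F × F × F)
/-- The maps of the field into the quadruples. -/
def iB : F →+ F × F × F × F := (AddMonoidHom.inr F (F × F × F)).comp (AddMonoidHom.inl F (F × F))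
/-- The maps of the field into the quadruples. -/
def iC : F →+ F × F × F × F :=
  (AddMonoidHom.inr F (F × F × F)).comp ((AddMonoidHom.inr F (F × F)).comp (AddMonoidHom.inl F F))
/-- The maps of the field into the quadruples. -/
def iD : F →+ F × F × F × F :=
  (AddMonoidHom.inr F (F × F × F)).comp ((AddMonoidHom.inr F (F × F)).comp (AddMonoidHom.inr F F))

/-- Two root subgroups at a time. -/
def i2 (f f' : F →+ F × F × F × F) : F × F →+ F × F × F × F :=
  f.comp (AddMonoidHom.fst F F) + f'.comp (AddMonoidHom.snd F F)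

theorem e4_iA (t : F) : e4 (iA t) = g 8 t := by simp [iA, e4, e3, e2, g_zero]
theorem e4_iB (t : F) : e4 (iB t) = g 9 t := by simp [iB, e4, e3, e2, g_zero]
theorem e4_iC (t : F) : e4 (iC t) = g 10 t := by simp [iC, e4, e3, e2, g_zero]
theorem e4_iD (t : F) : e4 (iD t) = g 11 t := by simp [iD, e4, e3, e2, g_zero]

theorem e4_i2 (h3 : (3 : F) = 0) (f f' : F →+ F × F × F × F) (p : F × F) :
    e4 (i2 f f' p) = e4 (f p.1) * e4 (f' p.2) := (e4_add h3 _ _).symm

theorem psi_one {a : F} : (∀ l, psi (a * l) = 1) ↔ a = 0 :=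
  ⟨psi_nd, fun h l => by rw [h, zero_mul, AddChar.map_zero_eq_one]⟩

theorem psi_two {a b : F} : (∀ p : F × F, psi (a * p.1 + b * p.2) = 1) ↔ a = 0 ∧ b = 0 :=
  ⟨fun h => ⟨psi_nd fun l => by simpa using h (l, 0), psi_nd fun l => by simpa using h (0, l)⟩,
    fun h p => by simp [h.1, h.2]⟩

/-- Conjugate coordinate subgroups have fixed spaces of the same dimension. -/
theorem fix_eq1 (h3 : (3 : F) = 0) (f f' : F →+ F × F × F × F) {n : G2 F} {r r' : ℕ} (h : Mv n r r')
    (hf : ∀ t, e4 (f t) = g r t) (hf' : ∀ t, e4 (f' t) = g r' t) :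
    dd φ (fun x => e4 (f x)) (0 : AddChar F ℂ) = dd φ (fun x => e4 (f' x)) (0 : AddChar F ℂ) := by
  obtain ⟨c, hc, e⟩ := h
  refine dd_conj' φ (fun a b => by rw [e4_add h3, map_add]) (fun a b => by rw [e4_add h3, map_add]) n
    { toFun := fun t => c * t, invFun := fun t => c⁻¹ * t
      left_inv := fun t => by simp [hc]
      right_inv := fun t => by simp [hc]
      map_add' := fun a b => mul_add c a b } (fun t => by simp [hf, hf', e]) fun t => by simp

theorem fix_eq2 (h3 : (3 : F) = 0) (f g' f' g'' : F →+ F × F × F × F) {n : G2 F} {r s r' s' : ℕ}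
    (h : Mv n r r') (k : Mv n s s') (hf : ∀ t, e4 (f t) = g r t) (hg : ∀ t, e4 (g' t) = g s t)
    (hf' : ∀ t, e4 (f' t) = g r' t) (hg' : ∀ t, e4 (g'' t) = g s' t) :
    dd φ (fun x => e4 (i2 f g' x)) (0 : AddChar (F × F) ℂ) =
      dd φ (fun x => e4 (i2 f' g'' x)) (0 : AddChar (F × F) ℂ) := by
  obtain ⟨c, hc, e⟩ := h
  obtain ⟨c', hc', e'⟩ := k
  refine dd_conj' φ (fun a b => by rw [e4_add h3, map_add]) (fun a b => by rw [e4_add h3, map_add]) n
    { toFun := fun p => (c * p.1, c' * p.2)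
      invFun := fun p => (c⁻¹ * p.1, c'⁻¹ * p.2)
      left_inv := fun t => by simp [hc, hc']
      right_inv := fun t => by simp [hc, hc']
      map_add' := fun a b => by ext <;> simp [mul_add] }
    (fun p => by rw [e4_i2 h3, e4_i2 h3, conj_prod, hf, hg, hf', hg', e, e']; rfl) fun t => by simp

/-- The sum over characters trivial on the roots `2a+b` and `3a+2b`. -/
noncomputable def TS : ℕ := ∑ a : F, ∑ c : F, Sv φ a c
/-- A partial sum. -/
noncomputable def SA : ℕ := ∑ a : F, Sv φ a 0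
/-- A partial sum. -/
noncomputable def SC : ℕ := ∑ c : F, Sv φ 0 c

theorem sumD_rest (h3 : (3 : F) = 0) (a : F) {b : F} (hb : b ≠ 0) :
    ∑ c, D4 φ a b c 0 = eR φ + (Fintype.card F - 1) * fR φ := by
  rw [sum_split fun c hc => valR1 φ h3 a hb hc, valR0 φ h3 a hb]

theorem sumQ (h3 : (3 : F) = 0) {d : F} (hd : d ≠ 0) (c : F) :
    ∑ a, D4 φ a 0 c d = eQ φ + (Fintype.card F - 1) * fQ φ := by
  rw [sum_split fun a ha => valQ1 φ h3 c ha hd, valQ0 φ h3 c hd]

open Classical in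
/-- The identities between the multiplicities. -/
theorem identities (h3 : (3 : F) = 0) :
    TS φ = SC φ + (Fintype.card F - 1) * (eR φ + (Fintype.card F - 1) * fR φ) ∧
    TS φ = SA φ + (Fintype.card F - 1) * (eQ φ + (Fintype.card F - 1) * fQ φ) ∧
    fR φ = mP φ ∧ fQ φ = mP φ ∧
    Module.finrank ℂ V = TS φ + Fintype.card F * (Fintype.card F - 1) * (eR φ + (Fintype.card F - 1) * fR φ) +
      (Fintype.card F - 1) * (Fintype.card F * (eQ φ + (Fintype.card F - 1) * fQ φ) +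
        (Fintype.card F - 1) * (Fintype.card F * Fintype.card F * mP φ)) := by
  classical
  set q := Fintype.card F with hq
  set n := q - 1 with hn
  have hconst : ∀ x : ℕ, ∑ _a : F, x = q * x := fun x => by rw [Finset.sum_const, Finset.card_univ, smul_eq_mul]
  -- characters trivial on one root subgroup
  have fD : dd φ (fun x => e4 (iD x)) (0 : AddChar F ℂ) = TS φ + q * n * (eR φ + n * fR φ) := by
    rw [fixDim φ h3 iD (fun _ _ _ d => d = 0) fun a b c d => by simp [iD, chi4_apply, psi_one]]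
    simp only [Finset.sum_ite_eq', Finset.mem_univ, if_true]
    rw [Finset.sum_congr rfl fun a _ => sum_split fun b hb => sumD_rest φ h3 a hb, Finset.sum_add_distrib, hconst,
      ← mul_assoc]
    rfl
  have fC : dd φ (fun x => e4 (iC x)) (0 : AddChar F ℂ) =
      SA φ + n * (eQ φ + n * fQ φ) + q * n * (eR φ + n * mP φ) := by
    rw [fixDim φ h3 iC (fun _ _ c _ => c = 0) fun a b c d => by simp [iC, chi4_apply, psi_one]]
    rw [Finset.sum_congr rfl fun a _ => Finset.sum_congr rfl fun b _ => Finset.sum_comm]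
    simp only [Finset.sum_ite_eq', Finset.mem_univ, if_true]
    rw [Finset.sum_congr rfl fun a _ => sum_split fun b hb => show ∑ d, D4 φ a b 0 d = eR φ + n * mP φ by
      rw [sum_split fun d hd => valP φ h3 a 0 hb hd, valR0 φ h3 a hb], Finset.sum_add_distrib, hconst, ← mul_assoc,
      Finset.sum_comm, sum_split fun d hd => sumQ φ h3 hd 0]
    rfl
  have fB : dd φ (fun x => e4 (iB x)) (0 : AddChar F ℂ) = TS φ + n * (q * (eQ φ + n * fQ φ)) := by
    rw [fixDim φ h3 iB (fun _ b _ _ => b = 0) fun a b c d => by simp [iB, chi4_apply, psi_one]]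
    rw [Finset.sum_congr rfl fun a _ => show (∑ b, ∑ c, ∑ d, if b = 0 then D4 φ a b c d else 0) = ∑ c, ∑ d, D4 φ a 0 c d by
      rw [Finset.sum_eq_single (0 : F) (fun b _ hb => by simp [hb]) (by simp)]; simp]
    rw [Finset.sum_congr rfl fun a _ => Finset.sum_comm, Finset.sum_comm,
      sum_split fun d hd => show (∑ a, ∑ c, D4 φ a 0 c d) = q * (eQ φ + n * fQ φ) by
        rw [Finset.sum_comm, Finset.sum_congr rfl fun c _ => sumQ φ h3 hd c, hconst]]
    rfl
  have fA : dd φ (fun x => e4 (iA x)) (0 : AddChar F ℂ) =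
      SC φ + n * (eR φ + n * fR φ) + n * (q * eQ φ + n * (q * mP φ)) := by
    rw [fixDim φ h3 iA (fun a _ _ _ => a = 0) fun a b c d => by simp [iA, chi4_apply, psi_one]]
    rw [Finset.sum_eq_single (0 : F) (fun a _ ha => by simp [ha]) (by simp)]
    simp only [if_true]
    rw [Finset.sum_congr rfl fun b _ => Finset.sum_comm, Finset.sum_comm,
      sum_split fun d hd => show (∑ b, ∑ c, D4 φ 0 b c d) = q * eQ φ + n * (q * mP φ) by
        rw [sum_split fun b hb => show ∑ c, D4 φ 0 b c d = q * mP φ by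
          rw [Finset.sum_congr rfl fun c _ => valP φ h3 0 c hb hd, hconst],
          Finset.sum_congr rfl fun c _ => valQ0 φ h3 c hd, hconst],
      sum_split fun b hb => sumD_rest φ h3 0 hb]
    rfl
  -- characters trivial on two root subgroups
  have fAD : dd φ (fun x => e4 (i2 iA iD x)) (0 : AddChar (F × F) ℂ) = SC φ + n * (eR φ + n * fR φ) := by
    rw [fixDim φ h3 (i2 iA iD) (fun a _ _ d => a = 0 ∧ d = 0) fun a b c d => by
      simp only [← psi_two]; simp [i2, iA, iD, chi4_apply]]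
    rw [Finset.sum_eq_single (0 : F) (fun a _ ha => by simp [ha]) (by simp)]
    simp only [true_and, Finset.sum_ite_eq', Finset.mem_univ, if_true]
    rw [sum_split fun b hb => sumD_rest φ h3 0 hb]
    rfl
  have fBD : dd φ (fun x => e4 (i2 iB iD x)) (0 : AddChar (F × F) ℂ) = TS φ := by
    rw [fixDim φ h3 (i2 iB iD) (fun _ b _ d => b = 0 ∧ d = 0) fun a b c d => by
      simp only [← psi_two]; simp [i2, iB, iD, chi4_apply]]
    refine Finset.sum_congr rfl fun a _ => ?_
    rw [Finset.sum_eq_single (0 : F) (fun b _ hb => by simp [hb]) (by simp)]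
    simp [Sv]
  have fBC : dd φ (fun x => e4 (i2 iB iC x)) (0 : AddChar (F × F) ℂ) = SA φ + n * (eQ φ + n * fQ φ) := by
    rw [fixDim φ h3 (i2 iB iC) (fun _ b c _ => b = 0 ∧ c = 0) fun a b c d => by
      simp only [← psi_two]; simp [i2, iB, iC, chi4_apply]]
    rw [Finset.sum_congr rfl fun a _ => show (∑ b, ∑ c, ∑ d, if b = 0 ∧ c = 0 then D4 φ a b c d else 0) = ∑ d, D4 φ a 0 0 d by
      rw [Finset.sum_eq_single (0 : F) (fun b _ hb => by simp [hb]) (by simp),
        Finset.sum_eq_single (0 : F) (fun c _ hc => by simp [hc]) (by simp)]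
      simp, Finset.sum_comm, sum_split fun d hd => sumQ φ h3 hd 0]
    rfl
  have m10 := move6 (F := F) (r := 10) (r' := 11) (by simp)
  have m9 := move6 (F := F) (r := 9) (r' := 9) (by simp)
  have E1 := fix_eq1 φ h3 iC iD m10 e4_iC e4_iD
  have E2 := fix_eq1 φ h3 iA iB (move7 (F := F) (r := 8) (r' := 9) (by simp)) e4_iA e4_iB
  have E3 := fix_eq2 φ h3 iA iD iB iD (move7 (F := F) (r := 8) (r' := 9) (by simp))
    (move7 (F := F) (r := 11) (r' := 11) (by simp)) e4_iA e4_iD e4_iB e4_iD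
  have E4 := fix_eq2 φ h3 iB iC iB iD m9 m10 e4_iB e4_iC e4_iB e4_iD
  rw [fC, fD] at E1
  rw [fA, fB] at E2
  rw [fAD, fBD] at E3
  rw [fBC, fBD] at E4
  have hq2 : 2 ≤ q := Fintype.one_lt_card
  have hqn : 0 < q * n * n := by
    have : 0 < n := by omega
    positivity
  refine ⟨E3.symm, E4.symm, ?_, ?_, ?_⟩
  · exact Nat.eq_of_mul_eq_mul_left hqn (by linear_combination -E1 + E4)
  · exact Nat.eq_of_mul_eq_mul_left hqn (by linear_combination -E2 + E3)
  · rw [total (φ := φ) (e := e4 (F := F)) (e4_add h3) chi4]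
    simp only [Fintype.sum_prod_type]
    show (∑ a, ∑ b, ∑ c, ∑ d, D4 φ a b c d) = _
    rw [Finset.sum_congr rfl fun a _ => Finset.sum_congr rfl fun b _ => Finset.sum_comm,
      Finset.sum_congr rfl fun a _ => Finset.sum_comm, Finset.sum_comm,
      sum_split fun d hd => show (∑ a, ∑ b, ∑ c, D4 φ a b c d) = q * (eQ φ + n * fQ φ) + n * (q * q * mP φ) by
        rw [Finset.sum_congr rfl fun a _ => sum_split fun b hb => show ∑ c, D4 φ a b c d = q * mP φ by
          rw [Finset.sum_congr rfl fun c _ => valP φ h3 a c hb hd, hconst], Finset.sum_add_distrib, hconst,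
          Finset.sum_comm, Finset.sum_congr rfl fun c _ => sumQ φ h3 hd c, hconst]
        ring]
    show (∑ a, ∑ b, ∑ c, D4 φ a b c 0) + n * _ = _
    rw [Finset.sum_congr rfl fun a _ => sum_split fun b hb => sumD_rest φ h3 a hb, Finset.sum_add_distrib, hconst,
      ← mul_assoc]
    rfl

end Cfsg.Lib.GTwoDeg
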